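import Cfsg.Agent.Lib.PGroup.UnitTwoGen.Even

/-!
A frame for the standard hermitian form, and two generators for the projective group.
-/

set_option autoImplicit false
set_option linter.unusedSectionVars false

namespace CfsgLib.PGroup.UnitTwoGen

open Matrix CfsgLib.SU

variable {F : Type*} [Field F] [Fintype F] {q : ℕ} {n : ℕ}

/-- The coordinate vector at a natural index. -/
def coord (n : ℕ) (i : ℕ) : Fin n → F := fun j => if (j : ℕ) = i then 1 else 0

theorem form_coord (C : UCtx F q) {i : ℕ} (hi : i < n) (y : Fin n → F) :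
    C.form y (coord n i) = y ⟨i, hi⟩ := by
  classical
  rw [UCtx.form, Finset.sum_eq_single ⟨i, hi⟩]
  · simp [coord]
  · intro j _ hj
    simp [coord, show (j : ℕ) ≠ i from fun h => hj (Fin.ext h)]
  · simp

theorem form_coord_coord (C : UCtx F q) {i j : ℕ} (hj : j < n) :
    C.form (coord n i : Fin n → F) (coord n j) = if j = i then 1 else 0 := by
  rw [form_coord C hj]; rfl

theorem exists_frame (C : UCtx F q) (hn : 2 ≤ n) :
    ∃ D : Frame C n, D.k = n / 2 ∧
      ((2 * (n / 2) = n ∧ D.u = 0) ∨ (2 * (n / 2) < n ∧ C.form D.u D.u = 1)) := by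
  classical
  obtain ⟨a, ha⟩ := C.exists_norm (c := (-1 : F)) (by rw [map_neg, map_one])
  obtain ⟨κ, hκ⟩ := C.exists_trace (c := (-1 : F)) (by rw [map_neg, map_one])
  obtain ⟨δ, hδ0, hδ⟩ := C.exists_trace_zero
  have ha' : C.bar a * a = -1 := by rw [mul_comm]; exact ha
  set e : ℕ → Fin n → F := fun i => coord n (2 * i) + a • coord n (2 * i + 1) with he
  set f : ℕ → Fin n → F := fun i => coord n (2 * i) + κ • e i with hf
  set u : Fin n → F := if 2 * (n / 2) = n then 0 else coord n (n - 1) with hu
  have bound : ∀ {i}, i < n / 2 → 2 * i < n ∧ 2 * i + 1 < n := fun {i} hi => ⟨by omega, by omega⟩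
  have hye : ∀ (y : Fin n → F) i (hi : i < n / 2),
      C.form y (e i) = y ⟨2 * i, (bound hi).1⟩ + C.bar a * y ⟨2 * i + 1, (bound hi).2⟩ :=
    fun y i hi => by
      rw [he, C.form_add_right, C.form_smul_right, form_coord C (bound hi).1, form_coord C (bound hi).2]
  have hyf : ∀ (y : Fin n → F) i (hi : i < n / 2),
      C.form y (f i) = y ⟨2 * i, (bound hi).1⟩ + C.bar κ * C.form y (e i) := fun y i hi => by
    rw [hf, C.form_add_right, C.form_smul_right, form_coord C (bound hi).1]
  have ee : ∀ i j, i < n / 2 → j < n / 2 → C.form (e i) (e j) = 0 := fun i j hi hj => by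
    rw [hye _ j hj]
    simp only [he, coord, Pi.add_apply, Pi.smul_apply, smul_eq_mul]
    rcases eq_or_ne i j with rfl | h
    · simp [ha']
    · simp [show ¬ (2 * j = 2 * i) by omega, show ¬ (2 * j = 2 * i + 1) by omega,
        show ¬ (2 * j + 1 = 2 * i) by omega, show ¬ (2 * j + 1 = 2 * i + 1) by omega]
  have ef0 : ∀ i j, i < n / 2 → j < n / 2 → C.form (e i) (f j) = if i = j then 1 else 0 :=
    fun i j hi hj => by
      rw [hyf _ j hj, ee i j hi hj]
      simp only [he, coord, Pi.add_apply, Pi.smul_apply, smul_eq_mul, mul_zero, add_zero]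
      rcases eq_or_ne i j with rfl | h
      · simp
      · simp [h, show ¬ (2 * j = 2 * i) by omega, show ¬ (2 * j = 2 * i + 1) by omega]
  have ff : ∀ i j, i < n / 2 → j < n / 2 → C.form (f i) (f j) = 0 := fun i j hi hj => by
    have h1 : C.form (coord n (2 * i) : Fin n → F) (e j) = if i = j then 1 else 0 := by
      rw [hye _ j hj]
      rcases eq_or_ne i j with rfl | h
      · simp [coord]
      · simp [coord, h, show ¬ (2 * j = 2 * i) by omega, show ¬ (2 * j + 1 = 2 * i) by omega]
    rw [hf]
    simp only [C.form_add_left, C.form_add_right, C.form_smul_left, C.form_smul_right, ee i j hi hj,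
      form_coord_coord C (bound hj).1, h1]
    have h2 : C.form (e i) (coord n (2 * j)) = if i = j then 1 else 0 := by
      rw [form_coord C (bound hj).1]
      rcases eq_or_ne i j with rfl | h
      · simp [he, coord]
      · simp [he, coord, h, show ¬ (2 * j = 2 * i) by omega, show ¬ (2 * j = 2 * i + 1) by omega]
    rw [h2]
    rcases eq_or_ne i j with rfl | h
    · simp only [if_true, mul_one, mul_zero, add_zero]
      linear_combination hκ
    · simp [h, show ¬ (2 * j = 2 * i) by omega]
  have hue : ∀ i, i < n / 2 → C.form u (e i) = 0 ∧ C.form u (f i) = 0 := fun i hi => by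
    by_cases h : 2 * (n / 2) = n
    · rw [hu, if_pos h, C.form_zero_left, C.form_zero_left]; exact ⟨rfl, rfl⟩
    · have h1 : C.form u (e i) = 0 := by
        rw [hye _ i hi, hu, if_neg h]
        simp [coord, show ¬ (2 * i = n - 1) by omega, show ¬ (2 * i + 1 = n - 1) by omega]
      refine ⟨h1, ?_⟩
      rw [hyf _ i hi, h1, hu, if_neg h]
      simp [coord, show ¬ (2 * i = n - 1) by omega]
  refine ⟨
    { k := n / 2, one := by omega, e := e, f := f, u := u, δ := δ, δ0 := hδ0, δtr := hδ
      ee := ee, ff := ff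
      ef := fun i hi => by rw [ef0 i i hi hi, if_pos rfl]
      ef' := fun i j hi hj h => by rw [ef0 i j hi hj, if_neg h]
      ue := fun i hi => (hue i hi).1, uf := fun i hi => (hue i hi).2
      span := fun y hy => ?_ }, rfl, ?_⟩
  · funext ⟨j, hj⟩
    by_cases hjk : j / 2 < n / 2
    · have h1 := (hy _ hjk).1
      have h2 := (hy _ hjk).2
      rw [hyf _ _ hjk, h1, mul_zero, add_zero] at h2
      rw [hye _ _ hjk, h2, zero_add] at h1
      have ha0 : C.bar a ≠ 0 := fun h => by rw [h, zero_mul] at ha'; simp at ha'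
      have h3 := (mul_eq_zero.1 h1).resolve_left ha0
      have hy0 : y ⟨j, hj⟩ = 0 := by
        rcases Nat.mod_two_eq_zero_or_one j with h | h
        · rw [← h2]; congr 1; ext; simp; omega
        · rw [← h3]; congr 1; ext; simp; omega
      rw [hy0, hu]
      by_cases h : 2 * (n / 2) = n
      · simp [h]
      · simp [h, coord, show ¬ (j = n - 1) by omega]
    · have h : ¬ 2 * (n / 2) = n := by omega
      have hj' : j = n - 1 := by omega
      subst hj'
      rw [hu, if_neg h, form_coord C hj]
      simp [coord]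
  · show (2 * (n / 2) = n ∧ u = 0) ∨ (2 * (n / 2) < n ∧ C.form u u = 1)
    by_cases h : 2 * (n / 2) = n
    · exact Or.inl ⟨h, by rw [hu, if_pos h]⟩
    · refine Or.inr ⟨by omega, ?_⟩
      rw [hu, if_neg h, form_coord_coord C (by omega), if_pos rfl]

theorem psu_two_gen (hF : Fintype.card F = q ^ 2) (hn : 3 ≤ n) (h32 : n = 3 → q ≠ 2) :
    ∃ a b : Cfsg.PSU n F q, Subgroup.closure ({a, b} : Set (Cfsg.PSU n F q)) = ⊤ := by
  obtain ⟨C⟩ := CfsgLib.Perm.Trans.Unit.ctx_of_card hF
  have h32' : ¬ (n = 3 ∧ q = 2) := fun h => h32 h.1 h.2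
  obtain ⟨D, hk, hD⟩ := exists_frame C (n := n) (by omega)
  obtain ⟨a, b, h⟩ : ∃ a b : ↥(Cfsg.SU n F q), Subgroup.closure ({a, b} : Set ↥(Cfsg.SU n F q)) = ⊤ := by
    rcases hD with ⟨he, hu⟩ | ⟨ho, hu⟩
    · exact D.two_gen_even hF hn h32' hu (by omega)
    · refine D.two_gen_odd hF hn h32' hu fun hq => ?_
      have : n ≠ 3 := fun h => h32 h hq
      omega
  refine ⟨pr a, pr b, ?_⟩
  have := congrArg (Subgroup.map (pr (n := n) (F := F) (q := q))) h
  rwa [MonoidHom.map_closure, Set.image_pair,
    Subgroup.map_top_of_surjective _ (QuotientGroup.mk'_surjective _)] at this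

end CfsgLib.PGroup.UnitTwoGen
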