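import Cfsg.Agent.Lib.PGroup.UnitTwoGen.Frame

/-!
Elements diagonal on a frame, their shifts along the cycle, and the commutator used by the generators.
-/

set_option autoImplicit false
set_option linter.unusedSectionVars false

namespace CfsgLib.PGroup.UnitTwoGen

open Matrix CfsgLib.SU

variable {F : Type*} [Field F] {q : ℕ} {n : ℕ} {C : UCtx F q} (D : Frame C n)

/-- Diagonal on the frame. -/
structure IsDiag (g : ↥(Cfsg.SU n F q)) (α β : ℕ → F) (μ : F) : Prop where
  he : ∀ i, i < D.k → act g (D.e i) = α i • D.e i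
  hf : ∀ i, i < D.k → act g (D.f i) = β i • D.f i
  hu : act g D.u = μ • D.u

variable {D} {g g' : ↥(Cfsg.SU n F q)} {α β α' β' : ℕ → F} {μ μ' : F}

theorem IsDiag.comm (h : IsDiag D g α β μ) (h' : IsDiag D g' α' β' μ') : g * g' = g' * g := by
  refine D.su_ext_frame (fun i hi => ?_) (fun i hi => ?_) ?_ <;> simp only [act_mul]
  · rw [h'.he i hi, h.he i hi, act_smul, act_smul, h.he i hi, h'.he i hi, smul_comm]
  · rw [h'.hf i hi, h.hf i hi, act_smul, act_smul, h.hf i hi, h'.hf i hi, smul_comm]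
  · rw [h'.hu, h.hu, act_smul, act_smul, h.hu, h'.hu, smul_comm]

theorem IsDiag.mul (h : IsDiag D g α β μ) (h' : IsDiag D g' α' β' μ') :
    IsDiag D (g * g') (fun i => α' i * α i) (fun i => β' i * β i) (μ' * μ) := by
  refine ⟨fun i hi => ?_, fun i hi => ?_, ?_⟩ <;> simp only [act_mul]
  · rw [h'.he i hi, act_smul, h.he i hi, smul_smul]
  · rw [h'.hf i hi, act_smul, h.hf i hi, smul_smul]
  · rw [h'.hu, act_smul, h.hu, smul_smul]

/-- The conjugate by the cycle. -/
theorem IsDiag.shift (h : IsDiag D g α β μ) :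
    IsDiag D (D.cyc * g * D.cyc⁻¹) (fun i => if i = 0 then β (D.k - 1) else α (i - 1))
      (fun i => if i = 0 then α (D.k - 1) else β (i - 1)) μ := by
  obtain ⟨c, c', hc, hc', hmid, hle, hlf, hu⟩ := D.cyc_values
  have hk := D.one
  have key : ∀ z w : Fin n → F, ∀ s : F, act g z = s • z → act D.cyc z = w →
      act (D.cyc * g * D.cyc⁻¹) w = s • w := by
    intro z w s hz hzw
    rw [← hzw, act_mul, act_mul, act_inv_act, hz, act_smul]
  refine ⟨fun i hi => ?_, fun i hi => ?_, ?_⟩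
  · rcases i with _ | i
    · simp only [if_true]
      have := key _ _ _ (h.hf (D.k - 1) (by omega)) hlf
      rw [act_smul, smul_comm] at this
      exact smul_right_injective _ hc' this
    · simp only [Nat.succ_ne_zero, if_false, Nat.add_sub_cancel]
      exact key _ _ _ (h.he i (by omega)) (hmid i hi).1
  · rcases i with _ | i
    · simp only [if_true]
      have := key _ _ _ (h.he (D.k - 1) (by omega)) hle
      rw [act_smul, smul_comm] at this
      exact smul_right_injective _ hc this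
    · simp only [Nat.succ_ne_zero, if_false, Nat.add_sub_cancel]
      exact key _ _ _ (h.hf i (by omega)) (hmid i hi).2
  · exact key _ _ _ h.hu hu

variable {G : Subgroup ↥(Cfsg.SU n F q)}

/-- Conjugating a root element by an element with two known eigenvectors. -/
theorem conj_scalar {z w : Fin n → F} {φ ρ a t : F} (hφ : φ ≠ 0) (hz : act g z = φ • z)
    (hw : act g w = ρ • w) (h : Adm C z (a • w) t) :
    Adm C z ((C.bar φ * ρ * a) • w) (φ * C.bar φ * t) ∧
      g * E C z (a • w) t * g⁻¹ = E C z ((C.bar φ * ρ * a) • w) (φ * C.bar φ * t) := by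
  have h1 := h.map g
  rw [hz, act_smul, hw, smul_smul] at h1
  have e := h1.of_smul hφ
  rw [smul_smul, show C.bar φ * (a * ρ) = C.bar φ * ρ * a by ring] at e
  refine ⟨e, ?_⟩
  rw [E_conj g h, hz, act_smul, hw, smul_smul, E_smul hφ h1, smul_smul,
    show C.bar φ * (a * ρ) = C.bar φ * ρ * a by ring]

theorem InS.scale {z w : Fin n → F} {φ ρ a : F} (hg : g ∈ G) (hφ : φ ≠ 0) (hz : act g z = φ • z)
    (hw : act g w = ρ • w) (h : InS (C := C) G z (a • w)) :
    InS (C := C) G z ((C.bar φ * ρ * a) • w) := by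
  obtain ⟨t, ht, hG⟩ := h
  obtain ⟨h1, h2⟩ := conj_scalar hφ hz hw ht
  exact ⟨_, h1, h2 ▸ mul_mem (mul_mem hg hG) (inv_mem hg)⟩

/-- The commutator of a diagonal element and a twisted conjugate of its shift. -/
theorem commutator_param {h h' : ↥(Cfsg.SU n F q)} {z w : Fin n → F} {t0 φ ρ φ' ρ' : F}
    (hφ : φ ≠ 0) (hz : act h z = φ • z) (hw : act h w = ρ • w)
    (hφ' : φ' ≠ 0) (hz' : act h' z = φ' • z) (hw' : act h' w = ρ' • w) (hcomm : h * h' = h' * h)
    (hx : Adm C z w t0) (hG : h ∈ G) (hG' : E C z w t0 * h' * (E C z w t0)⁻¹ ∈ G) :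
    ∃ T, Adm C z (((C.bar φ * ρ - 1) * (1 - C.bar φ' * ρ')) • w) T ∧
      E C z (((C.bar φ * ρ - 1) * (1 - C.bar φ' * ρ')) • w) T ∈ G ∧
      (C.form w w = 0 → T = (φ * C.bar φ - 1) * (1 - φ' * C.bar φ') * t0) := by
  set X := E C z w t0 with hX
  set χ := C.bar φ * ρ with hχ
  set χ' := C.bar φ' * ρ' with hχ'
  set ψ := φ * C.bar φ with hψ
  set ψ' := φ' * C.bar φ' with hψ'
  have hx1' : Adm C z ((1 : F) • w) t0 := by rwa [one_smul]
  obtain ⟨a1, c1⟩ := conj_scalar hφ hz hw hx1'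
  rw [one_smul, mul_one, ← hX, ← hχ, ← hψ] at c1
  rw [mul_one, ← hχ, ← hψ] at a1
  have a3 := a1.neg.add hx
  rw [show -(χ • w) + w = (1 - χ) • w by rw [sub_smul, one_smul]; abel] at a3
  obtain ⟨a4, c4⟩ := conj_scalar hφ' hz' hw' a3
  rw [← hχ', ← hψ'] at a4 c4
  have m1 : h * X * h⁻¹ * (h' * ((h * X * h⁻¹)⁻¹ * X) * h'⁻¹) * X⁻¹ ∈ G := by
    have e : h * X * h⁻¹ * (h' * ((h * X * h⁻¹)⁻¹ * X) * h'⁻¹) * X⁻¹ =
        h * (X * h' * X⁻¹) * h⁻¹ * (X * h' * X⁻¹)⁻¹ := by
      have : h⁻¹ * h' * h = h' := by rw [mul_assoc, ← hcomm, inv_mul_cancel_left]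
      calc h * X * h⁻¹ * (h' * ((h * X * h⁻¹)⁻¹ * X) * h'⁻¹) * X⁻¹
          = h * X * (h⁻¹ * h' * h) * X⁻¹ * h⁻¹ * X * h'⁻¹ * X⁻¹ := by group
        _ = _ := by rw [this]; group
    rw [e]
    exact mul_mem (mul_mem (mul_mem hG hG') (inv_mem hG)) (inv_mem hG')
  rw [c1, E_inv a1, hX, E_mul a1.neg hx, show -(χ • w) + w = (1 - χ) • w by
    rw [sub_smul, one_smul]; abel, c4, E_mul a1 a4, E_inv hx, E_mul (a1.add a4) hx.neg] at m1
  have hadm := (a1.add a4).add hx.neg
  have hsum : χ • w + (χ' * (1 - χ)) • w + -w = ((χ - 1) * (1 - χ')) • w := by module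
  rw [hsum] at m1 hadm
  refine ⟨_, hadm, m1, fun hww => ?_⟩
  have ht0 : C.bar t0 = -t0 := by linear_combination hx.2.2 - hww
  simp only [C.form_add_right, C.form_neg_left, C.form_neg_right, C.form_smul_left,
    C.form_smul_right, hww, map_mul, C.bar_bar, hψ, hψ', ht0]
  ring

end CfsgLib.PGroup.UnitTwoGen
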