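import Cfsg.Agent.Lib.PGroup.UnitTwoGen.Odd
import Cfsg.Agent.Lib.PGroup.OrthTwoGen.Routes

/-!
Two generators of `SU` in even dimension.
-/

set_option autoImplicit false
set_option linter.unusedSectionVars false

namespace CfsgLib.PGroup.UnitTwoGen

open Matrix CfsgLib.SU

variable {F : Type*} [Field F] [Fintype F] {q : ℕ} {n : ℕ} {C : UCtx F q}

theorem torus_det (P : UPair C n) {y : F} (hy : y ≠ 0) : (P.torus y hy).1.1.det = y / C.bar y := by
  show (C.rmap P.e P.f (y - 1) * C.rmap P.f P.e ((C.bar y)⁻¹ - 1)).det = _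
  rw [Matrix.det_mul, C.det_rmap, C.det_rmap, P.ef, P.fe, div_eq_mul_inv]
  ring

theorem torus_e (P : UPair C n) {y : F} (hy : y ≠ 0) :
    (P.torus y hy).1.1 *ᵥ P.e = y • P.e := by
  rw [P.torus_mulVec, P.ef, P.ee, mul_zero, zero_smul, add_zero, mul_one, sub_smul, one_smul]
  abel

theorem torus_f (P : UPair C n) {y : F} (hy : y ≠ 0) :
    (P.torus y hy).1.1 *ᵥ P.f = (C.bar y)⁻¹ • P.f := by
  rw [P.torus_mulVec, P.fe, P.ff, mul_zero, zero_smul, add_zero, mul_one, sub_smul, one_smul]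
  abel

theorem torus_fix (P : UPair C n) {y : F} (hy : y ≠ 0) {x : Fin n → F}
    (he : C.form x P.e = 0) (hf : C.form x P.f = 0) : (P.torus y hy).1.1 *ᵥ x = x := by
  rw [P.torus_mulVec, he, hf, mul_zero, mul_zero, zero_smul, zero_smul, add_zero, add_zero]

variable (D : Frame C n)

/-- A diagonal element moving the first and the last pair. -/
theorem Frame.exists_diag_two (hu0 : D.u = 0) (hk : 2 ≤ D.k) {y : F} (hy : y ≠ 0) :
    ∃ h : ↥(Cfsg.SU n F q), IsDiag D h
      (fun i => if i = 0 then y else if i = D.k - 1 then C.bar y else 1)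
      (fun i => if i = 0 then (C.bar y)⁻¹ else if i = D.k - 1 then y⁻¹ else 1) 1 := by
  have hby : C.bar y ≠ 0 := by simpa using hy
  have h0 : 0 < D.k := by omega
  have hl : D.k - 1 < D.k := by omega
  set P := D.pair h0 with hP
  set P' := D.pair hl with hP'
  have hd : ((P.torus y hy).1.1 * (P'.torus (C.bar y) hby).1.1 : Matrix (Fin n) (Fin n) F).det = 1 := by
    rw [Matrix.det_mul, torus_det, torus_det, C.bar_bar]
    field_simp
  let h := C.mkSU _ hd fun a b => by
    simp only [← Matrix.mulVec_mulVec]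
    rw [C.mem_gu_iff.1 (P.torus y hy).2, C.mem_gu_iff.1 (P'.torus (C.bar y) hby).2]
  have hact : ∀ x, act h x = (P.torus y hy).1.1 *ᵥ ((P'.torus (C.bar y) hby).1.1 *ᵥ x) := fun x => by
    rw [Matrix.mulVec_mulVec]; rfl
  have hne0 : (0 : ℕ) ≠ D.k - 1 := by omega
  refine ⟨h, fun i hi => ?_, fun i hi => ?_, ?_⟩
  · rw [hact]
    split_ifs with h1 h2
    · subst h1
      rw [torus_fix P' _ (D.ee 0 _ h0 hl) (D.ef' 0 _ h0 hl hne0)]
      exact torus_e P hy
    · subst h2
      rw [show D.e (D.k - 1) = P'.e from rfl, torus_e P' hby, Matrix.mulVec_smul,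
        torus_fix P hy (x := P'.e) (D.ee _ 0 hl h0) (D.ef' _ 0 hl h0 h1)]
    · rw [torus_fix P' _ (D.ee i _ hi hl) (D.ef' i _ hi hl h2),
        torus_fix P hy (D.ee i 0 hi h0) (D.ef' i 0 hi h0 h1), one_smul]
  · rw [hact]
    split_ifs with h1 h2
    · subst h1
      rw [torus_fix P' _ (D.fe' h0 hl hne0) (D.ff 0 _ h0 hl)]
      exact torus_f P hy
    · subst h2
      rw [show D.f (D.k - 1) = P'.f from rfl, torus_f P' hby, Matrix.mulVec_smul, C.bar_bar,
        torus_fix P hy (x := P'.f) (D.fe' hl h0 h1) (D.ff _ 0 hl h0)]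
    · rw [torus_fix P' _ (D.fe' hi hl h2) (D.ff i _ hi hl),
        torus_fix P hy (D.fe' hi h0 h1) (D.ff i 0 hi h0), one_smul]
  · rw [hu0, one_smul, act_zero]

/-- Two generators in even dimension. -/
theorem Frame.two_gen_even (hF : Fintype.card F = q ^ 2) (hn : 3 ≤ n) (h32 : ¬ (n = 3 ∧ q = 2))
    (hu0 : D.u = 0) (hk : 2 ≤ D.k) :
    ∃ a b : ↥(Cfsg.SU n F q), Subgroup.closure ({a, b} : Set ↥(Cfsg.SU n F q)) = ⊤ := by
  obtain ⟨l, hl0, hl⟩ := exists_primitive hF
  have hq := two_le_q hF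
  have hsq : q * 2 ≤ q ^ 2 := by rw [pow_two]; exact Nat.mul_le_mul_left q hq
  have hlb : C.bar l ≠ 0 := by simpa using hl0
  have hne : ∀ m, 0 < m → m < q ^ 2 - 1 → l ^ m ≠ 1 := fun m hm hm' =>
    pow_ne_one_of_lt_orderOf (by omega) (hl ▸ hm')
  have hne' : ∀ m, 0 < m → m < q ^ 2 - 1 → C.bar l ^ m ≠ 1 := fun m hm hm' h =>
    hne m hm hm' (C.bar.injective (by rw [map_pow, h, map_one]))
  obtain ⟨h, hD⟩ := D.exists_diag_two hu0 hk hl0
  have h0 : 0 < D.k := by omega
  have h1 : 1 < D.k := by omega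
  have hS := hD.shift
  have he0 := hD.he 0 h0
  have he1 := hD.he 1 h1
  have hs0 := hS.he 0 h0
  have hs1 := hS.he 1 h1
  simp only [if_true, one_ne_zero, if_false, Nat.sub_self, show D.k - 1 ≠ 0 by omega] at he0 he1 hs0 hs1
  set β := if (1 : ℕ) = D.k - 1 then C.bar l else 1 with hβ
  set χ := C.bar l * β with hχdef
  set ψ := l * C.bar l with hψdef
  have hord : q ≤ orderOf χ := by
    refine le_orderOf (mul_ne_zero hlb (by rw [hβ]; split_ifs <;> simp [hlb])) fun m hm hmq h => ?_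
    rw [hχdef, hβ] at h
    split_ifs at h
    · rw [← pow_two, ← pow_mul] at h
      have : q * q = q ^ 2 := (pow_two q).symm
      have := Nat.mul_le_mul_right q hq
      refine hne' (2 * m) (by omega) ?_ h
      omega
    · rw [mul_one] at h
      exact hne' m hm (by omega) h
  have hψq : ψ ^ (q - 1) = 1 := by
    have e : (l * C.bar l) ^ (q - 1) * 1 = l ^ ((q + 1) * (q - 1)) := by
      rw [mul_one, C.bar_eq, ← pow_succ', pow_mul]
    rw [← mul_one (ψ ^ (q - 1)), hψdef, e, show (q + 1) * (q - 1) = q ^ 2 - 1 by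
      have := Nat.sq_sub_sq q 1; simpa using this.symm, ← hl, pow_orderOf_eq_one]
  have hδ := D.δ0
  have hX0 : ∀ s, s + C.bar s = 0 → Adm C (D.e 0) (D.e 1) s := fun s hs =>
    adm_iso (D.ee 0 0 h0 h0) (D.ee 1 0 h1 h0) (D.ee 1 1 h1 h1) hs
  have hT : Adm C (D.e 0) 0 D.δ := adm_tz (D.ee 0 0 h0 h0) D.δtr
  -- the heart of the proof
  suffices key : ∀ (G : Subgroup ↥(Cfsg.SU n F q)) (t0 : F), t0 + C.bar t0 = 0 → h ∈ G →
      E C (D.e 0) (D.e 1) t0 * D.cyc ∈ G →
      ((ψ - 1) * (1 - ψ⁻¹) * t0 ≠ 0 ∨ E C (D.e 0) 0 D.δ ∈ G) → G = ⊤ by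
    by_cases hq2 : q = 2
    · have hψ1 : ψ = 1 := by
        have := hψq
        rwa [hq2, show (2 : ℕ) - 1 = 1 from rfl, pow_one] at this
      refine ⟨h * E C (D.e 0) 0 D.δ, E C (D.e 0) (D.e 1) 0 * D.cyc, ?_⟩
      set G := Subgroup.closure ({h * E C (D.e 0) 0 D.δ, E C (D.e 0) (D.e 1) 0 * D.cyc} :
        Set ↥(Cfsg.SU n F q)) with hGdef
      have hcomm : Commute h (E C (D.e 0) 0 D.δ) := by
        have e := E_conj h hT
        rw [he0, act_zero, E_smul hl0 (by rw [← he0, ← act_zero h]; exact hT.map h), smul_zero,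
          ← hψdef, hψ1, one_mul] at e
        exact mul_inv_eq_iff_eq_mul.1 e
      have hord3 : h ^ 3 = 1 := by
        have hl3 : l ^ 3 = 1 := by
          have : orderOf l = 3 := by rw [hl, hq2]; norm_num
          rw [← this]; exact pow_orderOf_eq_one l
        have hb3 : C.bar l ^ 3 = 1 := by rw [← map_pow, hl3, map_one]
        have hp : ∀ (z : Fin n → F) (c : F), act h z = c • z → act (h ^ 3) z = c ^ 3 • z := by
          intro z c hz
          rw [pow_succ, pow_succ, pow_one, act_mul, act_mul, hz, act_smul, hz, act_smul, act_smul,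
            hz, smul_smul, smul_smul]
          congr 1
          ring
        refine D.su_ext_frame (fun i hi => ?_) (fun i hi => ?_) ?_ <;>
          rw [show ∀ x : Fin n → F, act (1 : ↥(Cfsg.SU n F q)) x = x from su_one_mulVec]
        · rw [hp _ _ (hD.he i hi)]
          split_ifs <;> simp [hl3, hb3]
        · rw [hp _ _ (hD.hf i hi)]
          split_ifs <;> simp [inv_pow, hl3, hb3]
        · rw [hp _ _ hD.hu, one_pow, one_smul]
      have htv2 : E C (D.e 0) 0 D.δ ^ 2 = 1 := by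
        have h2 : (2 : F) = 0 := by
          haveI : Fact (Nat.Prime 2) := ⟨Nat.prime_two⟩
          haveI : CharP F 2 := charP_of_card_eq_prime_pow (p := 2) (f := 2) (by rw [hF, hq2])
          exact CharTwo.two_eq_zero
        rw [pow_two, E_mul hT hT, add_zero, C.form_zero_left, sub_zero, ← two_mul, h2, zero_mul,
          E_zero (D.ee 0 0 h0 h0)]
      obtain ⟨m1, m2⟩ := OrthTwoGen.mem_of_mul hcomm hord3 htv2 (by norm_num)
        (show h * E C (D.e 0) 0 D.δ ∈ G from Subgroup.subset_closure (Or.inl rfl))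
      exact key G 0 (by simp) m1 (Subgroup.subset_closure (Or.inr rfl)) (Or.inr m2)
    · refine ⟨h, E C (D.e 0) (D.e 1) D.δ * D.cyc, key _ D.δ D.δtr
        (Subgroup.subset_closure (Or.inl rfl)) (Subgroup.subset_closure (Or.inr rfl)) (Or.inl ?_)⟩
      have hψ1 : ψ ≠ 1 := by
        intro hc
        have h3q := Nat.mul_le_mul_right q (show 3 ≤ q by omega)
        rw [← pow_two] at h3q
        refine hne (q + 1) (by omega) (by omega) ?_
        rw [pow_succ', ← C.bar_eq, ← hψdef, hc]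
      refine mul_ne_zero (mul_ne_zero (sub_ne_zero.2 hψ1) (sub_ne_zero.2 (Ne.symm ?_))) hδ
      simpa using hψ1
  intro G t0 ht0 ha hb hcase
  set X := E C (D.e 0) (D.e 1) t0 with hXdef
  have hb' : X * (D.cyc * h * D.cyc⁻¹) * X⁻¹ ∈ G := by
    rw [show X * (D.cyc * h * D.cyc⁻¹) * X⁻¹ = X * D.cyc * h * (X * D.cyc)⁻¹ by group]
    exact mul_mem (mul_mem hb ha) (inv_mem hb)
  obtain ⟨T, hT1, hT2, hT3⟩ := commutator_param hl0 he0 he1 (inv_ne_zero hl0) hs0 hs1
    (hD.comm hS) (hX0 t0 ht0) ha hb'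
  have hT0 := hT3 (D.ee 1 1 h1 h1)
  rw [← hψdef, map_inv₀, ← mul_inv, ← hψdef] at hT0
  -- isotropic parameters along `e 1` add exactly
  have hadm : ∀ (c s : F), s + C.bar s = 0 → Adm C (D.e 0) (c • D.e 1) s := fun c s hs =>
    adm_iso (D.ee 0 0 h0 h0) (by rw [C.form_smul_left, D.ee 1 0 h1 h0, mul_zero])
      (by rw [C.form_smul_left, C.form_smul_right, D.ee 1 1 h1 h1, mul_zero, mul_zero]) hs
  have hmulE : ∀ c c' s s' : F, s + C.bar s = 0 → s' + C.bar s' = 0 →
      E C (D.e 0) (c • D.e 1) s * E C (D.e 0) (c' • D.e 1) s' =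
        E C (D.e 0) ((c + c') • D.e 1) (s + s') := by
    intro c c' s s' hs hs'
    rw [E_mul (hadm c s hs) (hadm c' s' hs'), C.form_smul_left, C.form_smul_right, D.ee 1 1 h1 h1,
      mul_zero, mul_zero, sub_zero, add_smul]
  have hconjE : ∀ c s : F, s + C.bar s = 0 →
      h * E C (D.e 0) (c • D.e 1) s * h⁻¹ = E C (D.e 0) ((χ * c) • D.e 1) (ψ * s) := fun c s hs =>
    (conj_scalar hl0 he0 he1 (hadm c s hs)).2
  set a1 := (C.bar l * β - 1) * (1 - C.bar l⁻¹ * l) with ha1
  have hTtr : T + C.bar T = 0 := by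
    have := hT1.2.2
    rwa [C.form_smul_left, C.form_smul_right, D.ee 1 1 h1 h1, mul_zero, mul_zero, add_zero] at this
  have hψfix : C.bar ψ = ψ := C.norm_fixed l
  -- iterate conjugation
  have hiter : ∀ m : ℕ, E C (D.e 0) ((χ ^ m * a1) • D.e 1) (ψ ^ m * T) ∈ G := by
    intro m
    induction m with
    | zero => rw [pow_zero, pow_zero, one_mul, one_mul]; exact hT2
    | succ m ih =>
      have := mul_mem (mul_mem ha ih) (inv_mem ha)
      rwa [hconjE _ _ (by rw [map_mul, map_pow, hψfix, ← mul_add, hTtr, mul_zero]),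
        show χ * (χ ^ m * a1) = χ ^ (m + 1) * a1 by ring,
        show ψ * (ψ ^ m * T) = ψ ^ (m + 1) * T by ring] at this
  have hstart : E C (D.e 0) (((χ ^ (q - 1) - 1) * a1) • D.e 1) 0 ∈ G := by
    have := hiter (q - 1)
    rw [hψq, one_mul] at this
    have e : E C (D.e 0) (((χ ^ (q - 1) - 1) * a1) • D.e 1) 0 * E C (D.e 0) (a1 • D.e 1) T =
        E C (D.e 0) ((χ ^ (q - 1) * a1) • D.e 1) T := by
      rw [hmulE _ _ _ _ (by simp) hTtr, zero_add]
      congr 2
      ring
    rw [← e] at this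
    have := mul_mem this (inv_mem hT2)
    rwa [mul_inv_cancel_right] at this
  let A : AddSubgroup F :=
    { carrier := {c | E C (D.e 0) (c • D.e 1) 0 ∈ G}
      add_mem' := fun {a b} g1 g2 => by
        have := mul_mem (show E C (D.e 0) (a • D.e 1) 0 ∈ G from g1)
          (show E C (D.e 0) (b • D.e 1) 0 ∈ G from g2)
        rwa [hmulE _ _ _ _ (by simp) (by simp), add_zero] at this
      zero_mem' := by
        show E C (D.e 0) ((0 : F) • D.e 1) 0 ∈ G
        rw [zero_smul, E_zero (D.ee 0 0 h0 h0)]; exact one_mem G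
      neg_mem' := fun {a} g1 => by
        have := inv_mem (show E C (D.e 0) (a • D.e 1) 0 ∈ G from g1)
        rwa [E_inv (hadm a 0 (by simp)), map_zero, ← neg_smul] at this }
  have hχ1 : χ ^ (q - 1) ≠ 1 := pow_ne_one_of_lt_orderOf (by omega) (by omega)
  have ha10 : a1 ≠ 0 := by
    refine mul_ne_zero (sub_ne_zero.2 ?_) (sub_ne_zero.2 (Ne.symm ?_))
    · intro hc
      exact hχ1 (by rw [hχdef, hc, one_pow])
    · intro hc
      rw [map_inv₀, inv_mul_eq_one₀ hlb, C.bar_eq] at hc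
      refine hne (q - 1) (by omega) (by omega) (mul_right_cancel₀ hl0 ?_)
      rw [one_mul, ← pow_succ, Nat.sub_add_cancel (by omega), hc]
  have hall : ∀ c : F, E C (D.e 0) (c • D.e 1) 0 ∈ G := addSubgroup_eq_top hF A hstart
    (mul_ne_zero (sub_ne_zero.2 hχ1) ha10)
    (fun c hc => by
      have := mul_mem (mul_mem ha hc) (inv_mem ha)
      rwa [hconjE _ _ (by simp), mul_zero] at this) hord
  obtain ⟨t1, ht1, ht10, ht1G⟩ : ∃ t1, t1 + C.bar t1 = 0 ∧ t1 ≠ 0 ∧ E C (D.e 0) 0 t1 ∈ G := by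
    rcases hcase with hc | hc
    · refine ⟨T, hTtr, hT0 ▸ hc, ?_⟩
      have := mul_mem (inv_mem (hall a1)) hT2
      rwa [E_inv (hadm a1 0 (by simp)), map_zero, ← neg_smul, hmulE _ _ _ _ (by simp) hTtr,
        neg_add_cancel, zero_smul, zero_add] at this
    · exact ⟨D.δ, D.δtr, hδ, hc⟩
  have hlong : Long (C := C) G (D.e 0) := by
    intro t ht
    rcases eq_or_ne t 0 with rfl | ht'
    · rw [E_zero (D.ee 0 0 h0 h0)]; exact one_mem G
    have hr : C.bar (t / t1) = t / t1 := by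
      rw [map_div₀, show C.bar t = -t by linear_combination ht,
        show C.bar t1 = -t1 by linear_combination ht1, neg_div_neg_eq]
    obtain ⟨x, hx⟩ := C.exists_norm hr
    have hx0 : x ≠ 0 := by
      intro hx0
      rw [hx0, zero_mul] at hx
      exact div_ne_zero ht' ht10 hx.symm
    obtain ⟨m, rfl⟩ : ∃ m : ℕ, x = l ^ m := by
      haveI : NeZero (q ^ 2 - 1) := ⟨by omega⟩
      have hp : IsPrimitiveRoot l (q ^ 2 - 1) := hl ▸ IsPrimitiveRoot.orderOf l
      obtain ⟨m, -, hm⟩ := hp.eq_pow_of_pow_eq_one (hF ▸ FiniteField.pow_card_sub_one_eq_one x hx0)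
      exact ⟨m, hm.symm⟩
    have hit : ∀ m : ℕ, E C (D.e 0) 0 (ψ ^ m * t1) ∈ G := by
      intro m
      induction m with
      | zero => rw [pow_zero, one_mul]; exact ht1G
      | succ m ih =>
        have := mul_mem (mul_mem ha ih) (inv_mem ha)
        have e := hconjE 0 (ψ ^ m * t1) (by rw [map_mul, map_pow, hψfix, ← mul_add, ht1, mul_zero])
        rw [zero_smul, mul_zero, zero_smul] at e
        rwa [e, ← mul_assoc, ← pow_succ'] at this
    have := hit m
    rwa [hψdef, mul_pow, ← map_pow, hx, div_mul_cancel₀ _ ht10] at this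
  have hXG : X ∈ G := InS.mem hlong ⟨0, by simpa using hadm 1 0 (by simp), by simpa using hall 1⟩
    (hX0 t0 ht0)
  have hw : D.cyc ∈ G := by
    have := mul_mem (inv_mem hXG) hb
    rwa [inv_mul_cancel_left] at this
  refine D.eq_top hF hn h32 hw hlong (fun c => ?_) fun _ c => ⟨0, hadm c 0 (by simp), hall c⟩
  rw [hu0, smul_zero]
  exact InS.zero (D.ee 0 0 h0 h0)

end CfsgLib.PGroup.UnitTwoGen
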