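import Cfsg.Agent.Lib.PGroup.UnitTwoGen.Frame
import Cfsg.Agent.Lib.Perm.Trans.UnitSU

/-!
A subgroup with the cycle and enough parameters at one centre is everything.
-/

set_option autoImplicit false
set_option linter.unusedSectionVars false

namespace CfsgLib.PGroup.UnitTwoGen

open Matrix CfsgLib.SU

variable {F : Type*} [Field F] [Fintype F] {q : ℕ} {n : ℕ} {C : UCtx F q} (D : Frame C n)
  {G : Subgroup ↥(Cfsg.SU n F q)}

namespace Frame

theorem long_e (hw : D.cyc ∈ G) (hT : Long (C := C) G (D.e 0)) :
    ∀ i, i < D.k → Long (C := C) G (D.e i) := by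
  obtain ⟨c, c', -, -, hmid, -⟩ := D.cyc_values
  intro i
  induction i with
  | zero => exact fun _ => hT
  | succ i ih =>
    intro hi
    have := (ih (by omega)).conj hw (D.ee _ _ (by omega) (by omega))
    rwa [(hmid i hi).1] at this

theorem long_f (hw : D.cyc ∈ G) (hT : Long (C := C) G (D.e 0)) :
    ∀ i, i < D.k → Long (C := C) G (D.f i) := by
  obtain ⟨c, c', hc, -, hmid, hle, -⟩ := D.cyc_values
  have hk := D.one
  intro i
  induction i with
  | zero =>
    intro _
    have := (D.long_e hw hT (D.k - 1) (by omega)).conj hw (D.ee _ _ (by omega) (by omega))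
    rw [hle] at this
    exact this.of_smul (D.ff 0 0 (by omega) (by omega)) hc
  | succ i ih =>
    intro hi
    have := (ih (by omega)).conj hw (D.ff _ _ (by omega) (by omega))
    rwa [(hmid i hi).2] at this

/-- All root elements at the first centre. -/
theorem full_e (hw : D.cyc ∈ G) (hT : Long (C := C) G (D.e 0))
    (hu : ∀ c : F, InS (C := C) G (D.e 0) (c • D.u))
    (h1 : 1 < D.k → ∀ c : F, InS (C := C) G (D.e 0) (c • D.e 1)) : Full (C := C) G (D.e 0) := by
  classical
  obtain ⟨-, -, -, -, hmid, -⟩ := D.cyc_values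
  have hk := D.one
  have hflip : ∀ i, i < D.k → D.flip i ∈ G := fun i hi =>
    D.flip_mem (D.long_e hw hT i hi) (D.long_f hw hT i hi)
  have hδ := D.δ0
  -- neighbouring centres
  have hadj : ∀ i, i + 1 < D.k → ∀ c : F, InS (C := C) G (D.e i) (c • D.e (i + 1)) := by
    intro i
    induction i with
    | zero => exact fun hi => h1 hi
    | succ i ih =>
      intro hi c
      have := (ih (by omega) c).conj hw
      rwa [act_smul, (hmid i (by omega)).1, (hmid (i + 1) hi).1] at this
  -- every member of a pair
  have hall : ∀ j, 0 < j → j < D.k → ∀ c : F,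
      InS (C := C) G (D.e 0) (c • D.e j) ∧ InS (C := C) G (D.e 0) (c • D.f j) := by
    intro j
    induction j with
    | zero => exact fun h => absurd h (lt_irrefl 0)
    | succ j ih =>
      intro _ hj
      obtain ⟨f1, f2, f3⟩ := D.flip_values (i := j + 1) hj
      have he : ∀ c : F, InS (C := C) G (D.e 0) (c • D.e (j + 1)) := by
        intro c
        rcases Nat.eq_zero_or_pos j with rfl | hpos
        · exact h1 hj c
        -- the element moving one pair to the next
        have hj' : j < D.k := by omega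
        obtain ⟨g1, g2, g3⟩ := D.flip_values (i := j) hj'
        have hne : -D.δ⁻¹ ≠ 0 := neg_ne_zero.2 (inv_ne_zero hδ)
        have h2 := (hadj j hj (C.bar (-D.δ⁻¹))⁻¹).conj (hflip j hj')
        rw [g1, act_smul, g3 _ (D.ee (j + 1) j hj hj') (D.ef' (j + 1) j hj hj' (by omega))] at h2
        have h3 := h2.of_smul hne
        rw [smul_inv_smul₀ (by simpa using hne)] at h3
        have hadm : Adm C (D.f j) (D.e (j + 1)) 0 := adm_iso (D.ff j j hj' hj')
          (D.ef' (j + 1) j hj hj' (by omega)) (D.ee _ _ hj hj) (by simp)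
        have hg := h3.mem (D.long_f hw hT j hj') hadm
        have h4 := (ih hpos hj' c).1
        have h5 := h4.conj hg
        rw [E_act hadm, act_smul, E_act hadm, D.ef j hj', D.ee j (j + 1) hj' hj,
          D.ef' 0 j (by omega) hj' (by omega), D.ee 0 (j + 1) (by omega) hj] at h5
        simp only [zero_smul, add_zero, mul_zero, zero_mul, sub_zero, one_smul, smul_add] at h5
        have h6 := h5.add h4.neg
        rwa [add_comm (c • D.e j), add_neg_cancel_right] at h6
      refine fun c => ⟨he c, ?_⟩
      have h2 := (he (c / (-D.δ⁻¹))).conj (hflip _ hj)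
      rwa [f3 _ (D.ee 0 _ (by omega) hj) (D.ef' 0 _ (by omega) hj (by omega)), act_smul, f1, smul_smul,
        div_mul_cancel₀ _ (neg_ne_zero.2 (inv_ne_zero hδ))] at h2
  -- decomposition
  let S : AddSubgroup (Fin n → F) :=
    { carrier := {w | InS (C := C) G (D.e 0) w}
      add_mem' := fun h h' => InS.add h h'
      zero_mem' := InS.zero (D.ee 0 0 (by omega) (by omega))
      neg_mem' := fun h => InS.neg h }
  intro w t ht
  refine InS.mem hT (t := t) ?_ ht
  set y := w - ∑ i ∈ Finset.range D.k, (C.form w (D.f i) • D.e i + C.form w (D.e i) • D.f i) with hy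
  have hres : ∀ j, j < D.k → C.form y (D.e j) = 0 ∧ C.form y (D.f j) = 0 := by
    intro j hj
    constructor <;> rw [hy, C.form_sub_left, C.form_sum_left, Finset.sum_eq_single j]
    · rw [C.form_add_left, C.form_smul_left, C.form_smul_left, D.ee j j hj hj, D.fe hj]; ring
    · intro i hi hne
      rw [C.form_add_left, C.form_smul_left, C.form_smul_left, D.ee i j (Finset.mem_range.1 hi) hj,
        D.fe' (Finset.mem_range.1 hi) hj hne]; ring
    · exact fun h => (h (Finset.mem_range.2 hj)).elim
    · rw [C.form_add_left, C.form_smul_left, C.form_smul_left, D.ff j j hj hj, D.ef j hj]; ring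
    · intro i hi hne
      rw [C.form_add_left, C.form_smul_left, C.form_smul_left, D.ff i j (Finset.mem_range.1 hi) hj,
        D.ef' i j (Finset.mem_range.1 hi) hj hne]; ring
    · exact fun h => (h (Finset.mem_range.2 hj)).elim
  have hyS : y ∈ S := by rw [D.span y hres]; exact hu _
  have hterm : ∀ i ∈ Finset.range D.k,
      C.form w (D.f i) • D.e i + C.form w (D.e i) • D.f i ∈ S := by
    intro i hi
    rcases Nat.eq_zero_or_pos i with rfl | hpos
    · rw [ht.2.1, zero_smul, add_zero]
      exact InS.self (D.ee 0 0 (by omega) (by omega)) _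
    · exact S.add_mem (hall i hpos (Finset.mem_range.1 hi) _).1 (hall i hpos (Finset.mem_range.1 hi) _).2
  have := S.add_mem hyS (S.sum_mem hterm)
  rwa [hy, sub_add_cancel] at this

/-- The criterion. -/
theorem eq_top (hF : Fintype.card F = q ^ 2) (hn : 3 ≤ n) (h32 : ¬ (n = 3 ∧ q = 2))
    (hw : D.cyc ∈ G) (hT : Long (C := C) G (D.e 0))
    (hu : ∀ c : F, InS (C := C) G (D.e 0) (c • D.u))
    (h1 : 1 < D.k → ∀ c : F, InS (C := C) G (D.e 0) (c • D.e 1)) : G = ⊤ := by
  have hk : 0 < D.k := D.one
  have hE := D.full_e hw hT hu h1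
  have hflip := D.flip_mem hT (D.long_f hw hT 0 hk)
  obtain ⟨fl1, fl2, -⟩ := D.flip_values (i := 0) hk
  have hFf : Full (C := C) G (D.f 0) := by
    have := hE.conj hflip
    rw [fl1] at this
    exact this.of_smul (neg_ne_zero.2 (inv_ne_zero D.δ0))
  -- centres not orthogonal to the first vector
  have gen : ∀ v, C.form v v = 0 → C.form v (D.e 0) ≠ 0 → Long (C := C) G v := by
    intro v hv hb
    set b := C.form v (D.e 0) with hbdef
    set v1 := b⁻¹ • v with hv1
    have e1 : C.form v1 (D.e 0) = 1 := by rw [hv1, C.form_smul_left, ← hbdef, inv_mul_cancel₀ hb]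
    have e2 : C.form v1 v1 = 0 := by rw [hv1, C.form_smul_left, C.form_smul_right, hv, mul_zero, mul_zero]
    clear_value v1
    set a := C.form v1 (D.f 0) with ha
    set w := v1 - D.f 0 - a • D.e 0 with hw'
    have hwe : C.form w (D.e 0) = 0 := by
      rw [hw', C.form_sub_left, C.form_sub_left, C.form_smul_left, e1, D.fe hk, D.ee 0 0 hk hk]; ring
    have hwf : C.form w (D.f 0) = 0 := by
      rw [hw', C.form_sub_left, C.form_sub_left, C.form_smul_left, ← ha, D.ff 0 0 hk hk, D.ef 0 hk]; ring
    have hadm : Adm C (D.e 0) w a := by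
      refine ⟨D.ee 0 0 hk hk, hwe, ?_⟩
      have hv1' : v1 = w + D.f 0 + a • D.e 0 := by rw [hw']; abel
      rw [hv1'] at e2
      simp only [C.form_add_left, C.form_add_right, C.form_smul_left, C.form_smul_right, hwe, hwf,
        C.form_swap_zero hwe, C.form_swap_zero hwf, D.ee 0 0 hk hk, D.ff 0 0 hk hk, D.ef 0 hk,
        D.fe hk] at e2
      linear_combination e2
    have hg := hE w a hadm
    have hgf : act (E C (D.e 0) w a) (D.f 0) = v1 := by
      rw [E_act hadm, D.fe hk, C.form_swap_zero hwf, hw']
      module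
    have h2 := (hFf.long (D.ff 0 0 hk hk)).conj hg (D.ff 0 0 hk hk)
    rw [hgf] at h2
    have h3 := h2.smul e2 b
    rwa [hv1, smul_inv_smul₀ hb] at h3
  have genF : ∀ v, C.form v v = 0 → C.form v (D.f 0) ≠ 0 → Long (C := C) G v := by
    intro v hv hb
    have hne : C.form (act (D.flip 0) v) (D.e 0) ≠ 0 := by
      intro h0
      have h2 : C.form (act (D.flip 0) v) (act (D.flip 0) (D.f 0)) = 0 := by
        rw [fl2, C.form_smul_right, h0, mul_zero]
      exact hb ((C.form_su _ _ _).symm.trans h2)
    have hfv : C.form (act (D.flip 0) v) (act (D.flip 0) v) = 0 := by rw [C.form_su]; exact hv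
    have h2 := (gen _ hfv hne).conj (inv_mem hflip) hfv
    rwa [act_inv_act] at h2
  have hlong : ∀ v, v ≠ 0 → C.form v v = 0 → Long (C := C) G v := by
    intro v hv0 hv
    by_cases h1 : C.form v (D.e 0) = 0
    swap
    · exact gen v hv h1
    by_cases h2 : C.form v (D.f 0) = 0
    swap
    · exact genF v hv h2
    obtain ⟨x, hx⟩ := C.exists_form_eq_one hv0
    set w := x - C.form x (D.f 0) • D.e 0 - C.form x (D.e 0) • D.f 0 with hw'
    have hwe : C.form w (D.e 0) = 0 := by
      rw [hw', C.form_sub_left, C.form_sub_left, C.form_smul_left, C.form_smul_left,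
        D.ee 0 0 hk hk, D.fe hk]; ring
    have hwv : C.form w v = 1 := by
      rw [hw', C.form_sub_left, C.form_sub_left, C.form_smul_left, C.form_smul_left, hx,
        C.form_swap_zero h1, C.form_swap_zero h2]; ring
    have hwf : C.form w (D.f 0) = 0 := by
      rw [hw', C.form_sub_left, C.form_sub_left, C.form_smul_left, C.form_smul_left,
        D.ef 0 hk, D.ff 0 0 hk hk]; ring
    obtain ⟨t, ht⟩ := C.exists_trace (c := -C.form w w) (by rw [map_neg, C.form_self_fixed])
    have hadm : Adm C (D.e 0) w t := ⟨D.ee 0 0 hk hk, hwe, by linear_combination ht⟩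
    have hg := hE w t hadm
    have hgv : C.form (act (E C (D.e 0) w t) v) (act (E C (D.e 0) w t) v) = 0 := by
      rw [C.form_su]; exact hv
    have hne : C.form (act (E C (D.e 0) w t) v) (D.f 0) ≠ 0 := by
      rw [E_act hadm, h1, ← C.bar_form w v, hwv, map_one]
      simp [C.form_add_left, C.form_smul_left, C.form_neg_left, h2, D.ef 0 hk]
    have h3 := (genF _ hgv hne).conj (inv_mem hg) hgv
    rwa [act_inv_act] at h3
  rw [eq_top_iff, ← CfsgLib.Perm.Trans.Unit.su_closure hF n hn h32, Subgroup.closure_le]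
  rintro A ⟨v, c, hv, hA⟩
  rcases eq_or_ne v 0 with rfl | hv0
  · have : A = 1 := su_ext fun x => by
      rw [su_one_mulVec, hA, CfsgLib.Perm.Trans.Unit.unitaryTransvection_mulVec, smul_zero, add_zero]
    exact this ▸ one_mem G
  have hq := C.q_ne_zero
  have hc : c + C.bar c = 0 := by
    have h := (CfsgLib.Perm.Trans.Unit.unitaryTransvection_iff hF hv0 hv c).1
      (fun x y => hA ▸ A.2 x y)
    rw [C.bar_eq]
    rcases h with rfl | h
    · simp [hq]
    · conv_lhs => arg 2; rw [← Nat.sub_add_cancel (Nat.one_le_iff_ne_zero.2 hq), pow_succ, h]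
      ring
  have hv' : C.form v v = 0 := by
    rw [← CfsgLib.Perm.Trans.Unit.hermForm_eq_form C]; exact hv
  have hAE : A = E C v 0 c := su_ext fun x => by
    show _ = act _ x
    rw [E_act (adm_tz hv' hc), hA, CfsgLib.Perm.Trans.Unit.unitaryTransvection_mulVec,
      CfsgLib.Perm.Trans.Unit.hermForm_eq_form C, C.form_zero_right, smul_zero, add_zero, sub_zero]
  exact hAE ▸ hlong v hv0 hv' c hc

end Frame

end CfsgLib.PGroup.UnitTwoGen
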