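import Cfsg.Agent.Lib.PGroup.UnitTwoGen.Root

/-!
Hyperbolic pairs spanning the space up to one anisotropic vector, and the cycle on them.
-/

set_option autoImplicit false
set_option linter.unusedSectionVars false

namespace CfsgLib.PGroup.UnitTwoGen

open Matrix CfsgLib.SU

variable {F : Type*} [Field F] {q : ℕ} {n : ℕ}

/-- Pairs with at most one further vector. -/
structure Frame (C : UCtx F q) (n : ℕ) where
  k : ℕ
  one : 1 ≤ k
  e : ℕ → Fin n → F
  f : ℕ → Fin n → F
  u : Fin n → F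
  δ : F
  δ0 : δ ≠ 0
  δtr : δ + C.bar δ = 0
  ee : ∀ i j, i < k → j < k → C.form (e i) (e j) = 0
  ff : ∀ i j, i < k → j < k → C.form (f i) (f j) = 0
  ef : ∀ i, i < k → C.form (e i) (f i) = 1
  ef' : ∀ i j, i < k → j < k → i ≠ j → C.form (e i) (f j) = 0
  ue : ∀ i, i < k → C.form u (e i) = 0
  uf : ∀ i, i < k → C.form u (f i) = 0
  span : ∀ y, (∀ i, i < k → C.form y (e i) = 0 ∧ C.form y (f i) = 0) → y = C.form y u • u

variable {C : UCtx F q} (D : Frame C n)

namespace Frame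

theorem fe {i : ℕ} (hi : i < D.k) : C.form (D.f i) (D.e i) = 1 := by
  rw [← C.bar_form, D.ef i hi, map_one]

theorem fe' {i j : ℕ} (hi : i < D.k) (hj : j < D.k) (h : i ≠ j) : C.form (D.f i) (D.e j) = 0 :=
  C.form_swap_zero (D.ef' j i hj hi h.symm)

theorem eu {i : ℕ} (hi : i < D.k) : C.form (D.e i) D.u = 0 := C.form_swap_zero (D.ue i hi)

theorem fu {i : ℕ} (hi : i < D.k) : C.form (D.f i) D.u = 0 := C.form_swap_zero (D.uf i hi)

theorem δinv : -D.δ⁻¹ + C.bar (-D.δ⁻¹) = 0 := by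
  have hb : C.bar D.δ = -D.δ := by linear_combination D.δtr
  rw [map_neg, map_inv₀, hb, inv_neg]; ring

/-- The rotation of two neighbouring pairs. -/
noncomputable def rot (i : ℕ) : ↥(Cfsg.SU n F q) :=
  E C (D.e i) (D.f (i + 1)) 0 * (E C (D.f i) (D.e (i + 1)) 0 * E C (D.e i) (D.f (i + 1)) 0)

theorem rot_values {i : ℕ} (h : i + 1 < D.k) :
    act (D.rot i) (D.e i) = D.e (i + 1) ∧ act (D.rot i) (D.e (i + 1)) = -D.e i ∧
      act (D.rot i) (D.f i) = D.f (i + 1) ∧ act (D.rot i) (D.f (i + 1)) = -D.f i ∧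
      ∀ y, C.form y (D.e i) = 0 → C.form y (D.f i) = 0 → C.form y (D.e (i + 1)) = 0 →
        C.form y (D.f (i + 1)) = 0 → act (D.rot i) y = y := by
  have hi : i < D.k := by omega
  have ne : i ≠ i + 1 := by omega
  have h0 : (0 : F) + C.bar 0 = 0 := by simp
  have a1 := adm_iso (C := C) (t := 0) (D.ee i i hi hi) (D.fe' h hi ne.symm) (D.ff _ _ h h) h0
  have a2 := adm_iso (C := C) (t := 0) (D.ff i i hi hi) (D.ef' _ _ h hi ne.symm) (D.ee _ _ h h) h0
  refine ⟨?_, ?_, ?_, ?_, fun y y1 y2 y3 y4 => ?_⟩ <;>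
    simp only [rot, act_mul, E_act a1, E_act a2, C.form_add_left, C.form_sub_left, C.form_smul_left,
      D.ee _ _ hi hi, D.ee _ _ hi h, D.ee _ _ h hi, D.ee _ _ h h, D.ff _ _ hi hi, D.ff _ _ hi h,
      D.ff _ _ h hi, D.ff _ _ h h, D.ef i hi, D.ef _ h, D.fe hi, D.fe h, D.ef' _ _ hi h ne,
      D.ef' _ _ h hi ne.symm, D.fe' hi h ne, D.fe' h hi ne.symm, zero_mul, mul_zero, zero_smul,
      sub_zero, add_zero, one_smul, mul_one, zero_add, zero_sub]
  case refine_5 => rw [y1, y2, y3, y4]; simp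
  all_goals module

/-- The transvections exchanging the vectors of a pair. -/
noncomputable def flip (i : ℕ) : ↥(Cfsg.SU n F q) :=
  E C (D.e i) 0 D.δ * (E C (D.f i) 0 (-D.δ⁻¹) * E C (D.e i) 0 D.δ)

theorem flip_values {i : ℕ} (hi : i < D.k) :
    act (D.flip i) (D.e i) = (-D.δ⁻¹) • D.f i ∧ act (D.flip i) (D.f i) = D.δ • D.e i ∧
      ∀ y, C.form y (D.e i) = 0 → C.form y (D.f i) = 0 → act (D.flip i) y = y := by
  have a1 := adm_tz (C := C) (D.ee i i hi hi) D.δtr
  have a2 := adm_tz (C := C) (D.ff i i hi hi) D.δinv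
  have h0 := D.δ0
  refine ⟨?_, ?_, fun y y1 y2 => ?_⟩ <;>
    simp only [flip, act_mul, E_act a1, E_act a2, C.form_zero_right, C.form_zero_left, C.form_add_left,
      C.form_smul_left, D.ee _ _ hi hi, D.ff _ _ hi hi, D.ef i hi, D.fe hi, mul_zero, zero_mul,
      smul_zero, sub_zero, add_zero, mul_one, zero_add, zero_smul]
  case refine_3 => rw [y1, y2]; simp
  all_goals match_scalars <;> field_simp <;> ring

theorem flip_mem {G : Subgroup ↥(Cfsg.SU n F q)} {i : ℕ} (he : Long (C := C) G (D.e i))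
    (hf : Long (C := C) G (D.f i)) : D.flip i ∈ G :=
  mul_mem (he _ D.δtr) (mul_mem (hf _ D.δinv) (he _ D.δtr))

/-- The chain of rotations ending in a flip. -/
noncomputable def chain : ℕ → ℕ → ↥(Cfsg.SU n F q)
  | a, 0 => D.flip a
  | a, d + 1 => D.rot a * chain (a + 1) d

theorem chain_values : ∀ (d a : ℕ), a + d < D.k → ∃ c c' : F, c ≠ 0 ∧ c' ≠ 0 ∧
    (∀ i, a ≤ i → i < a + d → act (D.chain a d) (D.e i) = D.e (i + 1) ∧
      act (D.chain a d) (D.f i) = D.f (i + 1)) ∧
    act (D.chain a d) (D.e (a + d)) = c • D.f a ∧ act (D.chain a d) (D.f (a + d)) = c' • D.e a ∧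
    (∀ i, i < a → act (D.chain a d) (D.e i) = D.e i ∧ act (D.chain a d) (D.f i) = D.f i) ∧
    act (D.chain a d) D.u = D.u := by
  intro d
  induction d with
  | zero =>
    intro a ha
    rw [Nat.add_zero] at ha
    obtain ⟨h1, h2, h3⟩ := D.flip_values (i := a) ha
    refine ⟨_, _, neg_ne_zero.2 (inv_ne_zero D.δ0), D.δ0, fun i h h' => by omega, h1, h2,
      fun i hi => ⟨?_, ?_⟩, h3 _ (D.ue a ha) (D.uf a ha)⟩
    · exact h3 _ (D.ee i a (by omega) ha) (D.ef' i a (by omega) ha (by omega))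
    · exact h3 _ (D.fe' (by omega) ha (by omega)) (D.ff i a (by omega) ha)
  | succ d ih =>
    intro a ha
    obtain ⟨c, c', hc, hc', hmid, hle, hlf, hlow, hu⟩ := ih (a + 1) (by omega)
    obtain ⟨r1, r2, r3, r4, r5⟩ := D.rot_values (i := a) (by omega)
    have ha' : a < D.k := by omega
    have ha1 : a + 1 < D.k := by omega
    have hfix : ∀ i, i < D.k → i ≠ a → i ≠ a + 1 →
        act (D.rot a) (D.e i) = D.e i ∧ act (D.rot a) (D.f i) = D.f i := fun i hi n1 n2 =>
      ⟨r5 _ (D.ee i a hi ha') (D.ef' i a hi ha' n1) (D.ee i _ hi ha1) (D.ef' i _ hi ha1 n2),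
        r5 _ (D.fe' hi ha' n1) (D.ff i a hi ha') (D.fe' hi ha1 n2) (D.ff i _ hi ha1)⟩
    refine ⟨-c, -c', neg_ne_zero.2 hc, neg_ne_zero.2 hc', fun i h h' => ?_, ?_, ?_, fun i hi => ?_, ?_⟩
    · rcases eq_or_lt_of_le h with rfl | hlt
      · simp only [chain, act_mul, (hlow a (by omega)).1, (hlow a (by omega)).2]
        exact ⟨r1, r3⟩
      · simp only [chain, act_mul, (hmid i hlt (by omega)).1, (hmid i hlt (by omega)).2]
        exact hfix (i + 1) (by omega) (by omega) (by omega)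
    · simp only [chain, act_mul]
      rw [show a + (d + 1) = a + 1 + d by omega, hle, act_smul, r4]; module
    · simp only [chain, act_mul]
      rw [show a + (d + 1) = a + 1 + d by omega, hlf, act_smul, r2]; module
    · simp only [chain, act_mul, (hlow i (by omega)).1, (hlow i (by omega)).2]
      exact hfix i (by omega) (by omega) (by omega)
    · simp only [chain, act_mul]
      rw [hu, r5 _ (D.ue a ha') (D.uf a ha') (D.ue _ ha1) (D.uf _ ha1)]

/-- The cycle on all the pairs. -/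
noncomputable def cyc : ↥(Cfsg.SU n F q) := D.chain 0 (D.k - 1)

theorem cyc_values : ∃ c c' : F, c ≠ 0 ∧ c' ≠ 0 ∧
    (∀ i, i + 1 < D.k → act D.cyc (D.e i) = D.e (i + 1) ∧ act D.cyc (D.f i) = D.f (i + 1)) ∧
    act D.cyc (D.e (D.k - 1)) = c • D.f 0 ∧ act D.cyc (D.f (D.k - 1)) = c' • D.e 0 ∧
    act D.cyc D.u = D.u := by
  have := D.one
  obtain ⟨c, c', hc, hc', hmid, hle, hlf, -, hu⟩ := D.chain_values (D.k - 1) 0 (by omega)
  rw [Nat.zero_add] at hle hlf
  exact ⟨c, c', hc, hc', fun i hi => hmid i (Nat.zero_le i) (by omega), hle, hlf, hu⟩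

/-- Two vectors with the same products with the pairs and the extra vector are equal. -/
theorem ext_frame {x y : Fin n → F} (he : ∀ i, i < D.k → C.form x (D.e i) = C.form y (D.e i))
    (hf : ∀ i, i < D.k → C.form x (D.f i) = C.form y (D.f i))
    (hu : C.form x D.u = C.form y D.u) : x = y := by
  have h := D.span (x - y) fun i hi =>
    ⟨by rw [C.form_sub_left, he i hi, sub_self], by rw [C.form_sub_left, hf i hi, sub_self]⟩
  rwa [C.form_sub_left, hu, sub_self, zero_smul, sub_eq_zero] at h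

/-- Two elements agreeing on the frame are equal. -/
theorem su_ext_frame {g g' : ↥(Cfsg.SU n F q)} (he : ∀ i, i < D.k → act g (D.e i) = act g' (D.e i))
    (hf : ∀ i, i < D.k → act g (D.f i) = act g' (D.f i)) (hu : act g D.u = act g' D.u) : g = g' := by
  have key : ∀ y, act g y = act g' y → ∀ x, C.form (act g'⁻¹ (act g x)) y = C.form x y := by
    intro y hy x
    rw [← C.form_su g' (act g'⁻¹ (act g x)) y]
    show C.form (act g' (act g'⁻¹ (act g x))) (act g' y) = _
    rw [act_act_inv, ← hy, C.form_su]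
  refine su_ext fun x => ?_
  show act g x = act g' x
  have h : act g'⁻¹ (act g x) = x :=
    D.ext_frame (fun i hi => key _ (he i hi) x) (fun i hi => key _ (hf i hi) x) (key _ hu x)
  conv_rhs => rw [← h, act_act_inv]

end Frame

end CfsgLib.PGroup.UnitTwoGen
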