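import Cfsg.Agent.Lib.PGroup.UnitTwoGen.Finish
import Cfsg.Agent.Lib.PGroup.UnitTwoGen.Diag
import Cfsg.Agent.Lib.SU.Borel

/-!
Two generators of `SU` in odd dimension.
-/

set_option autoImplicit false
set_option linter.unusedSectionVars false

namespace CfsgLib.PGroup.UnitTwoGen

open Matrix CfsgLib.SU

variable {F : Type*} [Field F] [Fintype F] {q : ℕ} {n : ℕ} {C : UCtx F q}

theorem two_le_q (hF : Fintype.card F = q ^ 2) : 2 ≤ q := by
  have h := Fintype.one_lt_card (α := F)
  rw [hF] at h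
  rcases q with _ | _ | q <;> simp at h ⊢

theorem exists_primitive (hF : Fintype.card F = q ^ 2) :
    ∃ l : F, l ≠ 0 ∧ orderOf l = q ^ 2 - 1 := by
  classical
  obtain ⟨ω, hω⟩ := IsCyclic.exists_generator (α := Fˣ)
  refine ⟨ω, ω.ne_zero, ?_⟩
  rw [orderOf_units, orderOf_eq_card_of_forall_mem_zpowers hω, Nat.card_eq_fintype_card,
    Fintype.card_units, hF]

theorem bar_eq_mul_pow (hF : Fintype.card F = q ^ 2) (x : F) : C.bar x = x ^ (q - 1) * x := by
  rw [C.bar_eq, ← pow_succ, Nat.sub_add_cancel (by have := two_le_q hF; omega)]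

variable (D : Frame C n)

/-- A pair of the frame. -/
def Frame.pair {i : ℕ} (hi : i < D.k) : UPair C n :=
  ⟨D.e i, D.f i, D.ee i i hi hi, D.ff i i hi hi, D.ef i hi⟩

/-- A diagonal element moving one pair and the extra vector. -/
theorem Frame.exists_diag_one (huu : C.form D.u D.u = 1) {i : ℕ} (hi : i < D.k) {y : F} (hy : y ≠ 0) :
    ∃ L : ↥(Cfsg.SU n F q), IsDiag D L (fun j => if j = i then y else 1)
      (fun j => if j = i then (C.bar y)⁻¹ else 1) (C.bar y / y) := by
  obtain ⟨L, ⟨hLe, hLf⟩, hL⟩ := (D.pair hi).exists_diag (u := D.u) ⟨D.ue i hi, D.uf i hi⟩ huu hy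
  have hby : C.bar y ≠ 0 := by simpa using hy
  have fix : ∀ w, C.form w (D.e i) = 0 → C.form w (D.f i) = 0 → C.form w D.u = 0 → act L w = w := by
    intro w w1 w2 w3
    have h := hL w ⟨w1, w2⟩
    rw [w3, mul_zero, zero_smul, add_zero] at h
    exact smul_right_injective _ hby h
  refine ⟨L, fun j hj => ?_, fun j hj => ?_, ?_⟩
  · split_ifs with h
    · subst h; exact hLe
    · rw [one_smul]; exact fix _ (D.ee j i hj hi) (D.ef' j i hj hi h) (D.eu hj)
  · split_ifs with h
    · subst h; exact hLf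
    · rw [one_smul]; exact fix _ (D.fe' hj hi h) (D.ff j i hj hi) (D.fu hj)
  · have h := hL D.u ⟨D.ue i hi, D.uf i hi⟩
    rw [huu, mul_one, ← add_smul] at h
    refine smul_right_injective _ hby ?_
    show C.bar y • act L D.u = C.bar y • (C.bar y / y) • D.u
    rw [act, h, smul_smul]
    congr 1
    field_simp
    ring

/-- The diagonal generator. -/
theorem Frame.exists_diag_gen (hF : Fintype.card F = q ^ 2) (huu : C.form D.u D.u = 1)
    (hk2 : q = 2 → 2 ≤ D.k) :
    ∃ (h : ↥(Cfsg.SU n F q)) (α β : ℕ → F) (μ : F), IsDiag D h α β μ ∧ α 0 ≠ 0 ∧ β (D.k - 1) ≠ 0 ∧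
      q ≤ orderOf (C.bar (α 0) * μ) ∧ C.bar (β (D.k - 1)) * μ ≠ 1 := by
  obtain ⟨l, hl0, hl⟩ := exists_primitive hF
  have hq := two_le_q hF
  have hk := D.one
  have hb0 : C.bar l ≠ 0 := by simpa using hl0
  have hsq : q * 2 ≤ q ^ 2 := by rw [pow_two]; exact Nat.mul_le_mul_left q hq
  have hne : ∀ m, 0 < m → m < q ^ 2 - 1 → l ^ m ≠ 1 := fun m hm hm' =>
    pow_ne_one_of_lt_orderOf (by omega) (hl ▸ hm')
  obtain ⟨L, hL⟩ := D.exists_diag_one huu (i := 0) (by omega) hl0
  rcases eq_or_ne q 2 with hq2 | hq2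
  · have hk' := hk2 hq2
    have hbar : C.bar l = l ^ 2 := by rw [C.bar_eq, hq2]
    have h3 : l ^ 3 = 1 := by
      have : orderOf l = 3 := by rw [hl, hq2]; norm_num
      rw [← this]; exact pow_orderOf_eq_one l
    have h1 : l ≠ 1 := by simpa using hne 1 one_pos (by rw [hq2]; norm_num)
    obtain ⟨L', hL'⟩ := D.exists_diag_one huu (i := 1) (by omega) hl0
    refine ⟨L * L', _, _, _, hL.mul hL', ?_, ?_, ?_, ?_⟩
    · simp [hl0]
    · refine mul_ne_zero ?_ ?_ <;> split_ifs <;> simp [hb0]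
    · have e : C.bar ((if 0 = 1 then l else 1) * (if (0 : ℕ) = 0 then l else 1)) *
          (C.bar l / l * (C.bar l / l)) = l := by
        simp only [zero_ne_one, if_false, if_true, one_mul, hbar]
        rw [show l ^ 2 / l = l by field_simp]
        linear_combination l * h3
      show q ≤ orderOf (C.bar ((if 0 = 1 then l else 1) * (if (0 : ℕ) = 0 then l else 1)) *
          (C.bar l / l * (C.bar l / l)))
      rw [e, hl, hq2]; norm_num
    · rw [if_neg (by omega : ¬ D.k - 1 = 0), mul_one]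
      split_ifs with h
      · rw [map_inv₀, C.bar_bar, hbar]
        field_simp
        intro h'
        apply h1
        linear_combination h' * 1
      · rw [map_one, hbar, one_mul]
        field_simp
        exact hne 2 two_pos (by rw [hq2]; norm_num)
  · refine ⟨L, _, _, _, hL, ?_, ?_, ?_, ?_⟩
    · simp [hl0]
    · split_ifs <;> simp [hb0]
    · have e : C.bar l * (C.bar l / l) = l ^ (2 * q - 1) := by
        have : l ^ (2 * q - 1) * l = C.bar l * C.bar l := by
          rw [← pow_succ, show 2 * q - 1 + 1 = q + q by omega, pow_add, C.bar_eq]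
        rw [mul_div_assoc', ← this, mul_div_assoc, div_self hl0, mul_one]
      show q ≤ orderOf (C.bar (if (0 : ℕ) = 0 then l else 1) * (C.bar l / l))
      rw [if_pos rfl, e]
      refine le_orderOf (pow_ne_zero _ hl0) fun m hm hmq h => ?_
      rw [← pow_mul] at h
      have hd : q ^ 2 - 1 ∣ (2 * q - 1) * m := hl ▸ orderOf_dvd_of_pow_eq_one h
      obtain ⟨c, hc⟩ := hd
      have h1 : ((2 * q - 1 : ℕ) : ℤ) = 2 * q - 1 := by omega
      have h2 : ((q ^ 2 - 1 : ℕ) : ℤ) = (q : ℤ) ^ 2 - 1 := by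
        rw [Nat.cast_sub (Nat.one_le_pow _ _ (by omega))]; push_cast; ring
      have hc' : (2 * (q : ℤ) - 1) * m = ((q : ℤ) ^ 2 - 1) * c := by
        rw [← h1, ← h2]; exact_mod_cast hc
      have h3 : 3 * (m : ℤ) = ((q : ℤ) ^ 2 - 1) * ((2 * q + 1) * c - 4 * m) := by
        linear_combination (2 * (q : ℤ) + 1) * hc'
      have hqz : (3 : ℤ) ≤ q := by omega
      have hmz : (m : ℤ) ≤ q - 1 := by omega
      have hpos : (0 : ℤ) < (q : ℤ) ^ 2 - 1 := by nlinarith
      have hc1 : 1 ≤ (2 * (q : ℤ) + 1) * c - 4 * m := by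
        by_contra hcon
        have := mul_nonpos_of_nonneg_of_nonpos hpos.le (by omega : (2 * (q : ℤ) + 1) * c - 4 * m ≤ 0)
        omega
      nlinarith [mul_le_mul_of_nonneg_left hc1 hpos.le]
    · split_ifs with h
      · rw [map_inv₀, C.bar_bar, bar_eq_mul_pow hF l, mul_div_assoc, div_self hl0, mul_one]
        intro h'
        refine hne (q - 2) (by omega) (by omega) ?_
        rw [show q - 1 = q - 2 + 1 by omega, pow_succ, ← mul_assoc, mul_comm l⁻¹, mul_assoc,
          inv_mul_cancel₀ hl0, mul_one] at h'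
        exact h'
      · rw [map_one, one_mul, bar_eq_mul_pow hF l, mul_div_assoc, div_self hl0, mul_one]
        exact hne (q - 1) (by omega) (by omega)

/-- Two generators in odd dimension. -/
theorem Frame.two_gen_odd (hF : Fintype.card F = q ^ 2) (hn : 3 ≤ n) (h32 : ¬ (n = 3 ∧ q = 2))
    (huu : C.form D.u D.u = 1) (hk2 : q = 2 → 2 ≤ D.k) :
    ∃ a b : ↥(Cfsg.SU n F q), Subgroup.closure ({a, b} : Set ↥(Cfsg.SU n F q)) = ⊤ := by
  obtain ⟨h, α, β, μ, hD, hα, hβ, hord, hne⟩ := D.exists_diag_gen hF huu hk2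
  obtain ⟨t0, ht0⟩ := C.exists_trace (c := (-1 : F)) (by rw [map_neg, map_one])
  have hk := D.one
  have hq := two_le_q hF
  have hX : Adm C (D.e 0) D.u t0 :=
    ⟨D.ee 0 0 hk hk, D.ue 0 hk, by rw [huu]; linear_combination ht0⟩
  set X := E C (D.e 0) D.u t0 with hXdef
  refine ⟨h, X * D.cyc, ?_⟩
  set G := Subgroup.closure ({h, X * D.cyc} : Set ↥(Cfsg.SU n F q)) with hGdef
  have ha : h ∈ G := Subgroup.subset_closure (Or.inl rfl)
  have hb : X * D.cyc ∈ G := Subgroup.subset_closure (Or.inr rfl)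
  have hb' : X * (D.cyc * h * D.cyc⁻¹) * X⁻¹ ∈ G := by
    rw [show X * (D.cyc * h * D.cyc⁻¹) * X⁻¹ = X * D.cyc * h * (X * D.cyc)⁻¹ by group]
    exact mul_mem (mul_mem hb ha) (inv_mem hb)
  have hS := hD.shift
  have hz' := hS.he 0 hk
  simp only [if_true] at hz'
  obtain ⟨T, hT1, hT2, -⟩ := commutator_param hα (hD.he 0 hk) hD.hu hβ hz' hS.hu
    (hD.comm hS) hX ha hb'
  have hχ : C.bar (α 0) * μ ≠ 1 := fun h1 => by
    rw [h1, orderOf_one] at hord; omega
  let A : AddSubgroup F :=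
    { carrier := {c | InS (C := C) G (D.e 0) (c • D.u)}
      add_mem' := fun {a b} h1 h2 => by
        show InS (C := C) G (D.e 0) ((a + b) • D.u)
        rw [add_smul]; exact InS.add h1 h2
      zero_mem' := by
        show InS (C := C) G (D.e 0) ((0 : F) • D.u)
        rw [zero_smul]; exact InS.zero (D.ee 0 0 hk hk)
      neg_mem' := fun {a} h1 => by
        show InS (C := C) G (D.e 0) ((-a) • D.u)
        rw [neg_smul]; exact InS.neg h1 }
  have hall : ∀ c : F, InS (C := C) G (D.e 0) (c • D.u) := addSubgroup_eq_top hF A ⟨T, hT1, hT2⟩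
    (mul_ne_zero (sub_ne_zero.2 hχ) (sub_ne_zero.2 (Ne.symm hne)))
    (fun c hc => InS.scale ha hα (hD.he 0 hk) hD.hu hc) hord
  have hlong : Long (C := C) G (D.e 0) := by
    intro t ht
    obtain ⟨y, hy⟩ := C.exists_trace (c := (1 : F)) (map_one _)
    obtain ⟨s, hs, hsG⟩ := hall (t * y)
    obtain ⟨r, hr, hrG⟩ := hall 1
    rw [one_smul] at hr hrG
    have p1 := mul_mem hsG hrG
    have p2 := mul_mem hrG hsG
    rw [E_mul hs hr] at p1
    rw [E_mul hr hs] at p2
    have hadm := hr.add hs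
    have e : E C (D.e 0) 0 t * E C (D.e 0) (D.u + (t * y) • D.u) (r + s - C.form ((t * y) • D.u) D.u) =
        E C (D.e 0) ((t * y) • D.u + D.u) (s + r - C.form D.u ((t * y) • D.u)) := by
      rw [E_mul (adm_tz (D.ee 0 0 hk hk) ht) hadm, zero_add, C.form_zero_right, sub_zero,
        add_comm D.u, C.form_smul_left, C.form_smul_right, huu]
      congr 1
      have hbt : C.bar t = -t := by linear_combination ht
      rw [map_mul, hbt]
      linear_combination -t * hy
    have := mul_mem p1 (inv_mem p2)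
    rwa [← e, mul_inv_cancel_right] at this
  have hXG : X ∈ G := InS.mem hlong (by simpa using hall 1) hX
  have hw : D.cyc ∈ G := by
    have := mul_mem (inv_mem hXG) hb
    rwa [inv_mul_cancel_left] at this
  refine D.eq_top hF hn h32 hw hlong hall fun hk1 c => ?_
  obtain ⟨-, -, -, -, hmid, -, -, hu⟩ := D.cyc_values
  have h1 := (hall 1).conj hw
  rw [act_smul, hu, (hmid 0 hk1).1, one_smul] at h1
  have h2 := InS.long_pair h1 (hall (-c)) (D.ee 0 1 hk hk1) (D.eu hk)
    (by rw [C.form_smul_left, D.ue 1 hk1, mul_zero])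
  rwa [C.form_smul_left, huu, mul_one, neg_neg] at h2

end CfsgLib.PGroup.UnitTwoGen
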