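import Cfsg.Agent.Lib.SU.Maps

/-!
The root elements of `SU` at an isotropic centre, as a total function of the parameters.
-/

set_option autoImplicit false
set_option linter.unusedSectionVars false

namespace CfsgLib.PGroup.UnitTwoGen

open Matrix CfsgLib.SU

variable {F : Type*} [Field F] {q : ℕ} {n : ℕ}

local notation "V" => (Fin n → F)

/-- The action on vectors. -/
abbrev act (g : ↥(Cfsg.SU n F q)) (x : Fin n → F) : Fin n → F := g.1.1 *ᵥ x

theorem act_mul (g h : ↥(Cfsg.SU n F q)) (x : V) : act (g * h) x = act g (act h x) :=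
  suMat_mulVec_mul g h x

theorem act_add (g : ↥(Cfsg.SU n F q)) (x y : V) : act g (x + y) = act g x + act g y :=
  Matrix.mulVec_add _ _ _

theorem act_smul (g : ↥(Cfsg.SU n F q)) (c : F) (x : V) : act g (c • x) = c • act g x :=
  Matrix.mulVec_smul _ _ _

theorem act_zero (g : ↥(Cfsg.SU n F q)) : act g (0 : V) = 0 := Matrix.mulVec_zero _

theorem act_inv_act (g : ↥(Cfsg.SU n F q)) (x : V) : act g⁻¹ (act g x) = x := su_inv_mulVec g x

theorem act_act_inv (g : ↥(Cfsg.SU n F q)) (x : V) : act g (act g⁻¹ x) = x := su_mulVec_inv g x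

variable (C : UCtx F q)

/-- Admissible parameters of a root element. -/
def Adm (z w : Fin n → F) (t : F) : Prop :=
  C.form z z = 0 ∧ C.form w z = 0 ∧ t + C.bar t + C.form w w = 0

/-- The root element `x ↦ x + ⟨x,z⟩ w + (t ⟨x,z⟩ - ⟨x,w⟩) z`. -/
noncomputable def E (z w : Fin n → F) (t : F) : ↥(Cfsg.SU n F q) :=
  letI := Classical.propDecidable (Adm C z w t)
  if h : Adm C z w t then
    C.mkSU (C.rmap (w + t • z) z 1 * C.rmap z w (-1))
      (by
        rw [Matrix.det_mul, C.det_rmap, C.det_rmap, C.form_add_left, C.form_smul_left, h.1, h.2.1,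
          C.form_swap_zero h.2.1]
        simp)
      fun x y => by
        simp only [← Matrix.mulVec_mulVec, C.rmap_mulVec, one_mul, C.form_add_left, C.form_add_right,
          C.form_smul_left, C.form_smul_right, h.1, h.2.1, C.form_swap_zero h.2.1, map_mul, map_neg,
          map_one, map_add, map_zero, C.bar_form]
        linear_combination (C.form x z * C.form z y) * h.2.2
  else 1

variable {C} {z z' w w' : Fin n → F} {t t' : F}

theorem E_act (h : Adm C z w t) (x : V) :
    act (E C z w t) x = x + C.form x z • w + (t * C.form x z - C.form x w) • z := by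
  rw [act, E, dif_pos h, UCtx.mkSU_val, ← Matrix.mulVec_mulVec, C.rmap_mulVec, C.rmap_mulVec]
  simp only [C.form_add_left, C.form_smul_left, h.1, one_mul]
  module

theorem adm_zero (hz : C.form z z = 0) : Adm C z 0 0 :=
  ⟨hz, C.form_zero_left _, by simp [C.form_zero_left]⟩

theorem adm_tz (hz : C.form z z = 0) (ht : t + C.bar t = 0) : Adm C z 0 t :=
  ⟨hz, C.form_zero_left _, by rw [C.form_zero_left, add_zero, ht]⟩

theorem adm_iso (hz : C.form z z = 0) (hwz : C.form w z = 0) (hw : C.form w w = 0)
    (ht : t + C.bar t = 0) : Adm C z w t :=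
  ⟨hz, hwz, by rw [hw, add_zero, ht]⟩

theorem E_zero (hz : C.form z z = 0) : E C z 0 0 = 1 :=
  su_ext fun x => by
    show act _ x = _
    rw [E_act (adm_zero hz), su_one_mulVec, C.form_zero_right]; simp

theorem Adm.add (h : Adm C z w t) (h' : Adm C z w' t') :
    Adm C z (w + w') (t + t' - C.form w' w) := by
  refine ⟨h.1, by rw [C.form_add_left, h.2.1, h'.2.1, add_zero], ?_⟩
  simp only [map_sub, map_add, C.bar_form, C.form_add_left, C.form_add_right]
  linear_combination h.2.2 + h'.2.2

theorem E_mul (h : Adm C z w t) (h' : Adm C z w' t') :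
    E C z w t * E C z w' t' = E C z (w + w') (t + t' - C.form w' w) :=
  su_ext fun x => by
    show act _ x = act _ x
    simp only [act_mul, E_act h, E_act h', E_act (h.add h'), C.form_add_left, C.form_add_right,
      C.form_smul_left, h.1, h'.2.1, C.form_swap_zero h.2.1, mul_zero, add_zero]
    module

theorem Adm.neg (h : Adm C z w t) : Adm C z (-w) (C.bar t) := by
  refine ⟨h.1, by rw [C.form_neg_left, h.2.1, neg_zero], ?_⟩
  rw [C.bar_bar, C.form_neg_left, C.form_neg_right]
  linear_combination h.2.2

theorem E_inv (h : Adm C z w t) : (E C z w t)⁻¹ = E C z (-w) (C.bar t) := by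
  rw [inv_eq_iff_mul_eq_one, E_mul h h.neg, add_neg_cancel, C.form_neg_left,
    show t + C.bar t - -C.form w w = 0 by linear_combination h.2.2, E_zero h.1]

theorem Adm.map (g : ↥(Cfsg.SU n F q)) (h : Adm C z w t) : Adm C (act g z) (act g w) t :=
  ⟨by rw [C.form_su]; exact h.1, by rw [C.form_su]; exact h.2.1, by rw [C.form_su]; exact h.2.2⟩

theorem E_conj (g : ↥(Cfsg.SU n F q)) (h : Adm C z w t) :
    g * E C z w t * g⁻¹ = E C (act g z) (act g w) t :=
  su_ext fun x => by
    show act _ x = act _ x
    obtain ⟨y, rfl⟩ : ∃ y, x = act g y := ⟨act g⁻¹ x, (act_act_inv g x).symm⟩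
    simp only [act_mul, act_inv_act, E_act h, E_act (h.map g), act_add, act_smul, C.form_su]

theorem Adm.of_smul {c : F} (hc : c ≠ 0) (h : Adm C (c • z) w t) :
    Adm C z (C.bar c • w) (c * C.bar c * t) := by
  have hb : C.bar c ≠ 0 := by simpa using hc
  obtain ⟨h1, h2, h3⟩ := h
  simp only [C.form_smul_left, C.form_smul_right, mul_eq_zero, hc, hb, false_or] at h1 h2
  refine ⟨h1, by rw [C.form_smul_left, h2, mul_zero], ?_⟩
  rw [C.form_smul_left, C.form_smul_right, C.bar_bar, map_mul, C.norm_fixed]
  linear_combination (c * C.bar c) * h3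

theorem E_smul {c : F} (hc : c ≠ 0) (h : Adm C (c • z) w t) :
    E C (c • z) w t = E C z (C.bar c • w) (c * C.bar c * t) :=
  su_ext fun x => by
    show act _ x = act _ x
    simp only [E_act h, E_act (h.of_smul hc), C.form_smul_right, C.bar_bar]
    module

theorem E_add_self (a : F) (h : Adm C z w t) :
    E C z (w + a • z) (t - a + C.bar a) = E C z w t := by
  have h' : Adm C z (w + a • z) (t - a + C.bar a) := by
    refine ⟨h.1, by rw [C.form_add_left, C.form_smul_left, h.1, h.2.1, mul_zero, add_zero], ?_⟩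
    simp only [C.form_add_left, C.form_add_right, C.form_smul_left, C.form_smul_right, h.1, h.2.1,
      C.form_swap_zero h.2.1, map_add, map_sub, C.bar_bar]
    linear_combination h.2.2
  refine su_ext fun x => ?_
  show act _ x = act _ x
  simp only [E_act h', E_act h, C.form_add_right, C.form_smul_right]
  module

section member

variable (G : Subgroup ↥(Cfsg.SU n F q))

/-- Some root element with this vector parameter lies in `G`. -/
def InS (z w : Fin n → F) : Prop := ∃ t, Adm C z w t ∧ E C z w t ∈ G

/-- All transvections at `z` lie in `G`. -/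
def Long (z : Fin n → F) : Prop := ∀ t, t + C.bar t = 0 → E C z 0 t ∈ G

/-- All root elements at `z` lie in `G`. -/
def Full (z : Fin n → F) : Prop := ∀ w t, Adm C z w t → E C z w t ∈ G

variable {G}

theorem InS.add (h : InS (C := C) G z w) (h' : InS (C := C) G z w') :
    InS (C := C) G z (w + w') := by
  obtain ⟨t, ht, hG⟩ := h
  obtain ⟨t', ht', hG'⟩ := h'
  exact ⟨_, ht.add ht', E_mul ht ht' ▸ mul_mem hG hG'⟩

theorem InS.neg (h : InS (C := C) G z w) : InS (C := C) G z (-w) := by
  obtain ⟨t, ht, hG⟩ := h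
  exact ⟨_, ht.neg, E_inv ht ▸ inv_mem hG⟩

theorem InS.zero (hz : C.form z z = 0) : InS (C := C) G z 0 :=
  ⟨0, adm_zero hz, E_zero hz ▸ one_mem G⟩

theorem InS.self (hz : C.form z z = 0) (a : F) : InS (C := C) G z (a • z) := by
  have h := E_add_self a (adm_zero (C := C) hz)
  rw [zero_add, E_zero hz] at h
  refine ⟨0 - a + C.bar a, ?_, h ▸ one_mem G⟩
  exact ⟨hz, by rw [C.form_smul_left, hz, mul_zero],
    by rw [C.form_smul_left, C.form_smul_right, hz]; simp only [map_add, map_sub, map_zero, C.bar_bar]; ring⟩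

theorem InS.conj {g : ↥(Cfsg.SU n F q)} (hg : g ∈ G) (h : InS (C := C) G z w) :
    InS (C := C) G (act g z) (act g w) := by
  obtain ⟨t, ht, hG⟩ := h
  exact ⟨t, ht.map g, E_conj g ht ▸ mul_mem (mul_mem hg hG) (inv_mem hg)⟩

theorem InS.of_smul {c : F} (hc : c ≠ 0) (h : InS (C := C) G (c • z) w) :
    InS (C := C) G z (C.bar c • w) := by
  obtain ⟨t, ht, hG⟩ := h
  exact ⟨_, ht.of_smul hc, E_smul hc ht ▸ hG⟩

/-- With all transvections, the scalar parameter does not matter. -/
theorem InS.mem (hL : Long (C := C) G z) (h : InS (C := C) G z w) (ht : Adm C z w t) :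
    E C z w t ∈ G := by
  obtain ⟨s, hs, hG⟩ := h
  have hts : (t - s) + C.bar (t - s) = 0 := by
    rw [map_sub]; linear_combination ht.2.2 - hs.2.2
  have := mul_mem hG (hL _ hts)
  rwa [E_mul hs (adm_tz hs.1 hts), C.form_zero_left, add_zero,
    show s + (t - s) - 0 = t by ring] at this

theorem Long.conj {g : ↥(Cfsg.SU n F q)} (hg : g ∈ G) (hz : C.form z z = 0)
    (h : Long (C := C) G z) : Long (C := C) G (act g z) := fun t ht => by
  have := mul_mem (mul_mem hg (h t ht)) (inv_mem hg)
  rwa [E_conj g (adm_tz hz ht), act_zero] at this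

theorem Long.smul (hz : C.form z z = 0) (h : Long (C := C) G z) (c : F) :
    Long (C := C) G (c • z) := fun t ht => by
  have hcz : C.form (c • z) (c • z) = 0 := by
    rw [C.form_smul_left, C.form_smul_right, hz, mul_zero, mul_zero]
  rcases eq_or_ne c 0 with rfl | hc
  · have e : E C ((0 : F) • z) 0 t = 1 := su_ext fun x => by
      show act _ x = _
      rw [E_act (adm_tz hcz ht), su_one_mulVec, zero_smul, C.form_zero_right]; simp
    exact e ▸ one_mem G
  · rw [E_smul hc (adm_tz hcz ht), smul_zero]
    exact h _ (by rw [map_mul, C.norm_fixed, ← mul_add, ht, mul_zero])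

theorem Long.of_smul (hz : C.form z z = 0) {c : F} (hc : c ≠ 0) (h : Long (C := C) G (c • z)) :
    Long (C := C) G z := by
  have := h.smul (c := c⁻¹) (by rw [C.form_smul_left, C.form_smul_right, hz, mul_zero, mul_zero])
  rwa [inv_smul_smul₀ hc] at this

theorem Full.long (h : Full (C := C) G z) (hz : C.form z z = 0) : Long (C := C) G z :=
  fun t ht => h 0 t (adm_tz hz ht)

theorem Full.conj {g : ↥(Cfsg.SU n F q)} (hg : g ∈ G) (h : Full (C := C) G z) :
    Full (C := C) G (act g z) := fun w t ht => by
  have h1 := ht.map g⁻¹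
  rw [act_inv_act] at h1
  have h2 := mul_mem (mul_mem hg (h _ _ h1)) (inv_mem hg)
  rwa [E_conj g h1, act_act_inv] at h2

theorem Full.of_smul {c : F} (hc : c ≠ 0) (h : Full (C := C) G (c • z)) :
    Full (C := C) G z := fun w t ht => by
  have hb : C.bar c ≠ 0 := by simpa using hc
  have hn : c * C.bar c ≠ 0 := mul_ne_zero hc hb
  have h1 : Adm C (c • z) ((C.bar c)⁻¹ • w) (t / (c * C.bar c)) := by
    refine ⟨by rw [C.form_smul_left, C.form_smul_right, ht.1, mul_zero, mul_zero],
      by rw [C.form_smul_left, C.form_smul_right, ht.2.1, mul_zero, mul_zero], ?_⟩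
    rw [map_div₀, C.norm_fixed, C.form_smul_left, C.form_smul_right, map_inv₀, C.bar_bar]
    field_simp
    linear_combination ht.2.2
  have h2 := h _ _ h1
  rwa [E_smul hc h1, smul_inv_smul₀ hb, mul_div_cancel₀ _ hn] at h2

/-- Two root elements with orthogonal centres give one in the plane of the centres. -/
theorem InS.long_pair {a b : Fin n → F} (ha : InS (C := C) G z a) (hb : InS (C := C) G z' b)
    (hzz : C.form z' z = 0) (hza : C.form z' a = 0) (hzb : C.form b z = 0) :
    InS (C := C) G z' ((-C.form b a) • z) := by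
  obtain ⟨t, ht, hG⟩ := ha
  have h := hb.conj hG
  rw [E_act ht, E_act ht, hzz, hza, hzb] at h
  simp only [zero_smul, add_zero, mul_zero, sub_zero, zero_sub] at h
  have h' := h.add hb.neg
  simpa [sub_eq_add_neg, add_comm, add_left_comm] using h'

end member

/-- An additive subgroup stable under a scalar of large order is everything. -/
theorem addSubgroup_eq_top [Fintype F] (hF : Fintype.card F = q ^ 2) (A : AddSubgroup F) {a χ : F}
    (ha : a ∈ A) (ha0 : a ≠ 0) (hmul : ∀ t ∈ A, χ * t ∈ A) (hχ : q ≤ orderOf χ) (t : F) : t ∈ A := by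
  classical
  let R : Subring F :=
    { carrier := {m | ∀ x ∈ A, m * x ∈ A}
      mul_mem' := fun {m m'} hm hm' x hx => by rw [mul_assoc]; exact hm _ (hm' x hx)
      one_mem' := fun x hx => by rwa [one_mul]
      add_mem' := fun {m m'} hm hm' x hx => by rw [add_mul]; exact A.add_mem (hm x hx) (hm' x hx)
      zero_mem' := fun x _ => by rw [zero_mul]; exact A.zero_mem
      neg_mem' := fun {m} hm x hx => by rw [neg_mul]; exact A.neg_mem (hm x hx) }
  let K : Subfield F :=
    { R with
      inv_mem' := fun m hm => by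
        rcases eq_or_ne m 0 with rfl | hm0
        · rw [_root_.inv_zero]; exact R.zero_mem
        have h : m ^ (Fintype.card F - 2) = m⁻¹ := by
          refine eq_inv_of_mul_eq_one_left ?_
          rw [← pow_succ, show Fintype.card F - 2 + 1 = Fintype.card F - 1 by
            have := Fintype.one_lt_card (α := F); omega, FiniteField.pow_card_sub_one_eq_one m hm0]
        exact h ▸ R.pow_mem hm _ }
  have hK : ∀ m : F, m ∈ K := by
    have hcard : Fintype.card F = Fintype.card ↥K ^ Module.finrank ↥K F :=
      Module.card_eq_pow_finrank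
    have hr : 0 < Module.finrank ↥K F := Module.finrank_pos
    rcases Nat.lt_or_ge 1 (Module.finrank ↥K F) with h1 | h1
    · exfalso
      have h2 : Fintype.card ↥K ^ 2 ≤ q ^ 2 := by
        rw [← hF, hcard]; exact Nat.pow_le_pow_right Fintype.card_pos h1
      have h3 : Fintype.card ↥K ≤ q := (Nat.pow_le_pow_iff_left two_ne_zero).1 h2
      have hχK : χ ∈ K := hmul
      have hq0 : 0 < q := Nat.pos_of_ne_zero fun h => by
        simp [h] at hF
      have hχ0 : (⟨χ, hχK⟩ : ↥K) ≠ 0 := fun h => by
        have : χ = 0 := congrArg Subtype.val h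
        rw [this, orderOf_zero] at hχ
        omega
      have h4 : orderOf χ ≤ Fintype.card ↥K - 1 :=
        Nat.le_of_dvd (by have := Fintype.one_lt_card (α := ↥K); omega)
          (orderOf_dvd_of_pow_eq_one
            (congrArg Subtype.val (FiniteField.pow_card_sub_one_eq_one (⟨χ, hχK⟩ : ↥K) hχ0)))
      omega
    · intro m
      have he : Fintype.card ↥K = Fintype.card F := by
        rw [hcard, show Module.finrank ↥K F = 1 by omega, pow_one]
      obtain ⟨x, hx⟩ := ((Fintype.bijective_iff_injective_and_card _).2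
        ⟨Subtype.val_injective, he⟩).2 m
      exact hx ▸ x.2
  have := hK (t / a) a ha
  rwa [div_mul_cancel₀ _ ha0] at this

/-- A scalar whose order is at least `q`. -/
theorem le_orderOf [Fintype F] {χ : F} (hχ : χ ≠ 0) (h : ∀ m, 0 < m → m < q → χ ^ m ≠ 1) : q ≤ orderOf χ := by
  by_contra hlt
  have hpos : 0 < orderOf χ := orderOf_pos_iff.2 (isOfFinOrder_iff_pow_eq_one.2
    ⟨Fintype.card F - 1, by have := Fintype.one_lt_card (α := F); omega,
      FiniteField.pow_card_sub_one_eq_one χ hχ⟩)
  exact h _ hpos (not_le.1 hlt) (pow_orderOf_eq_one χ)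

end CfsgLib.PGroup.UnitTwoGen
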